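import Mathlib
import Cfsg.Agent.QT.NCExc
import Cfsg.Agent.QT.Cox
import Cfsg.Agent.Comp.Prim
import Cfsg.Agent.Spor.ModelM11
import Cfsg.Agent.Spor.ModelM22
import Cfsg.Agent.Spor.ModelJ2
import Cfsg.Agent.Spor.ModelJ3
import Cfsg.Agent.Spor.ModelHS
import Cfsg.Agent.Spor.ModelMcL
import Cfsg.Agent.Spor.ModelCo1
import Cfsg.Agent.Spor.ModelSuz
import Cfsg.Agent.Spor.ModelHe
import Cfsg.Agent.Spor.ModelRu
import Cfsg.Agent.Spor.ModelON
import Cfsg.Agent.Spor.ModelFi22
import Cfsg.Agent.Spor.ModelFi23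
import Cfsg.Agent.S1708
import Cfsg.Agent.S1710
import Cfsg.Agent.S1711

/-!
Noncyclic Sylow subgroups of odd order in the sporadic groups.
-/

set_option autoImplicit false

namespace Cfsg.Agent.QT

open Subgroup Cfsg Cfsg.Spor Cfsg.Agent.Comp Cfsg.Agent.Spor Cfsg.Agent.Gold.CTwo

/-- Two commuting permutations of order three; the first fixes `a` and moves `b`, the second
moves `a`. -/
noncomputable def ncW (N w : ℕ) (ns : List Net) (ws : List (List ℕ)) (X Y : List ℕ) (a b : ℕ) : Bool :=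
  eqW N w ns (powW (subW ws X) 3) [] && eqW N w ns (powW (subW ws Y) 3) [] &&
    eqW N w ns (appendR (subW ws X) (subW ws Y)) (appendR (subW ws Y) (subW ws X)) &&
    Nat.blt a N && Nat.blt b N && mapsW ns (subW ws X) a a && !mapsW ns (subW ws Y) a a &&
    !mapsW ns (subW ws X) b b

theorem nc_of_ncW {N w : ℕ} {ns : List Net} (c : Ctx N w ns) {ws : List (List ℕ)} (X Y : List ℕ)
    (a b : ℕ) (h : ncW N w ns ws X Y a b = true) : NC (gen ns ws) := by
  simp only [ncW, Bool.and_eq_true, Nat.blt_eq, Bool.not_eq_true'] at h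
  obtain ⟨⟨⟨⟨⟨⟨⟨h1, h2⟩, h3⟩, ha⟩, hb⟩, h4⟩, h5⟩, h6⟩ := h
  have key : ∀ {u : List ℕ} {a : ℕ}, a < N → mapsW ns u a a = false → wp ns u a ≠ a :=
    fun {u a} ha h e => by
      rw [mapsW, tb_eq, testBit_appW_one c.ok _ _ ha, e,
        show Nat.shiftLeft 1 a = 2 ^ a from Nat.one_shiftLeft a, Nat.testBit_two_pow_self] at h
      exact Bool.noConfusion h
  refine nc_of_not_mem Nat.prime_three (by norm_num) (x := ⟨_, subW_mem ns ws X⟩)
    (y := ⟨_, subW_mem ns ws Y⟩) (Subtype.ext ((wp_powW _ _ _).symm.trans (wp_eq_of_eqW c h1)))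
    (Subtype.ext ((wp_powW _ _ _).symm.trans (wp_eq_of_eqW c h2)))
    (Subtype.ext (by simpa using wp_eq_of_eqW c h3))
    (fun e => key hb h6 (by rw [show wp ns _ = 1 from congrArg Subtype.val e]; rfl)) ?_
  rintro ⟨k, e⟩
  refine key ha h5 ?_
  rw [← show wp ns (subW ws X) ^ k = wp ns (subW ws Y) from congrArg Subtype.val e]
  exact Equiv.Perm.zpow_apply_eq_self_of_apply_eq_self (wp_apply_of_mapsW c.ok ha h4) k

theorem nc_M11 : NC M11 := (nc_of_ncW ModelM11.ctx [2, 2, 0, 2, 0, 2, 2, 2, 0, 2, 0, 2]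
  [3, 0, 2, 0, 2, 2, 0] 11 1 (by decide +kernel)).of_equiv ModelM11.equiv

theorem nc_M22 : NC M22 := (nc_of_ncW ModelM22.ctx [1, 2, 2, 0, 3, 3]
  [2, 0, 2, 2, 0, 2, 0, 3, 0, 2, 2, 0, 3, 0, 2, 0, 2, 2, 0, 2, 1, 2, 2, 0, 3, 3, 3, 1, 3, 3, 1, 3, 1,
    2, 1, 3, 3, 1, 2, 1, 3, 1, 3, 3, 1, 3] 13 1 (by decide +kernel)).of_equiv ModelM22.equiv

theorem nc_M24 : NC M24 := nc_M22.of_le (inf_le_left.trans inf_le_left)

theorem nc_J2 : NC J2 := (nc_of_ncW ModelJ2.ctx [3]
  [0, 3, 0, 3, 0, 2, 0, 3, 0, 3, 0, 2, 0, 3, 3, 0, 2, 1, 3, 0, 2, 1, 3, 0, 2, 1, 3, 0, 2, 1, 2, 1, 3,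
    1, 2, 1, 2, 1, 3, 1, 2, 1, 2, 1] 24 0 (by decide +kernel)).of_equiv ModelJ2.equiv

theorem nc_J3 : NC (gen ModelJ3.ns ModelJ3.G_ss0) := nc_of_ncW ModelJ3.ctx [0, 0, 3, 0, 0, 3]
  [1, 2, 0, 0, 0, 0, 3, 0, 0, 3, 1, 1, 3, 0] 519 0 (by decide +kernel)

theorem nc_HS : NC HS := (nc_of_ncW ModelHS.ctx [2, 1, 2, 1, 2, 1, 2, 1]
  [0, 0, 2, 1, 1, 1, 1, 1, 2, 1, 2, 1, 2, 1, 2, 0, 0, 0, 0, 3, 1, 1] 0 1
  (by decide +kernel)).of_equiv ModelHS.equiv

theorem nc_McL : NC McL := (nc_of_ncW ModelMcL.ctx [1, 2, 1, 1, 2, 1, 1, 2, 1]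
  [2, 0, 2, 2, 2, 1, 1, 2, 1, 1, 2, 1, 1, 3, 3, 1, 3] 11 0 (by decide +kernel)).of_equiv ModelMcL.equiv

theorem nc_Co1 : NC Co1 := (nc_of_ncW ModelCo1.ctx [7, 7, 7] [8, 14, 9, 7, 7, 7, 8, 15, 9] 7277 1
  (by decide +kernel)).of_equiv ModelCo1.equiv

theorem nc_Suz : NC Suz :=
  (nc_of_ncW ModelSuz.ctx [6, 8] [2, 10] 1 3 (by decide +kernel)).of_equiv ModelSuz.equiv

theorem nc_He : NC He := (nc_of_ncW ModelHe.ctx [7, 8] [12, 10, 4, 7, 8, 5, 11, 13] 0 2
  (by decide +kernel)).of_equiv ModelHe.equiv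

theorem nc_Ru : NC Ru := (nc_of_ncW ModelRu.ctx [2, 0, 0, 3, 0, 2, 2, 0, 0, 3, 0, 2]
  [2, 1, 1, 3, 1, 2, 2, 0, 2, 0, 3, 1, 3, 1, 1, 1, 3, 3, 3, 3, 0, 0, 0, 0, 0, 3, 0, 2, 2, 0, 0, 3, 0,
    2, 2, 1, 1, 1, 2, 2, 2, 2, 0, 0, 0, 2, 0, 2, 1, 3, 1, 3, 3, 0, 2, 0, 0, 3] 1181 0
  (by decide +kernel)).of_equiv ModelRu.equiv

theorem nc_ON : NC ON :=
  (nc_of_ncW ModelON.ctx [10, 12] [4, 6] 54 1 (by decide +kernel)).of_equiv ModelON.equiv

theorem nc_Fi22 : NC Fi22 :=
  (nc_of_ncW ModelFi22.ctx [6, 8] [0, 2] 0 2 (by decide +kernel)).of_equiv ModelFi22.equiv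

theorem nc_Fi23 : NC Fi23 :=
  (nc_of_ncW ModelFi23.ctx [6, 8] [0, 2] 6 3 (by decide +kernel)).of_equiv ModelFi23.equiv

theorem nc_Fi24 (hn : ¬ IsMulCommutative Fi24') : NC Fi24' := by
  have C := cx_of (E := Fi24.edges) (X := Fi24.extra)
  have key : ∀ {s : Fi24}, PresentedGroup.of Fi24.Gen.c = s → PresentedGroup.of Fi24.Gen.d = s →
      PresentedGroup.of Fi24.Gen.e = s → False := fun hc hd he => by
    have hb := C.step (z := .b) hd hc (by decide)
    have ha := C.step (z := .a) hd hb (by decide)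
    have hf := C.step (z := .f) ha he (by decide)
    have hg := C.step (z := .g) ha hf (by decide)
    have hj := C.step (z := .j) ha hg (by decide)
    have hh := C.step (z := .h) ha hd (by decide)
    have hi := C.step (z := .i) ha hh (by decide)
    have hk := C.step (z := .k) hc ha (by decide)
    have hl := C.step (z := .l) ha hk (by decide)
    exact hn ⟨⟨fun a b => Subtype.ext (comm_of_gen (fun x => by cases x <;> assumption) a.1 b.1)⟩⟩
  refine nc_of_sep (Subgroup.subtype _) Nat.prime_three (by norm_num)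
    (x := ⟨_, cx_mem_two C (x := .a) (y := .b) (by decide) (C.ab (by decide))⟩)
    (y := ⟨_, cx_mem_two C (x := .e) (y := .f) (by decide) (C.ab (by decide))⟩)
    (Subtype.ext (C.lab (by decide))) (Subtype.ext (C.lab (by decide)))
    (Subtype.ext (cx_comm_four C (by decide)))
    (fun e => cx_ne_one C (by decide) (fun e => ?_) (congrArg Subtype.val e))
    (cx_comm_two C (x := .e) (by decide)).symm
    (not_commute_of_cube (C.sq (by decide)) (C.sq (by decide)) (C.lab (by decide)) fun e => ?_)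
  · have hc := C.step (z := .c) e rfl (by decide)
    have hd := C.step (z := .d) e hc (by decide)
    exact key hc hd (C.step e hd (by decide))
  · have hd := C.step (z := .d) rfl e (by decide)
    exact key (C.step e hd (by decide)) hd e

theorem th_triv_of {H : Type*} [Group H] {f : Th.Gen → H}
    (R : ∀ r ∈ Th.extra, FreeGroup.lift f r = 1) (h : f .t = 1 ∨ f .a = f .b) (x : Th.Gen) :
    f x = 1 := by
  simp only [Th.extra, List.forall_mem_cons, map_mul, map_pow, map_inv,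
    FreeGroup.lift_apply_of] at R
  obtain ⟨r0, r1, r2, r3, -, r5, -, r7, r8, -, r10, -, r12, -, r14, -, -, -, r18, r19, r20, -, -, -,
    -, -, r26, r27, -, -, -, -, r32, -, r34, -, r36, -⟩ := R
  have e10 := mul_inv_eq_one.1 r10
  have ha : f .a = 1 := by
    rcases h with h | h
    · have hs : f .s = 1 := by simpa [h, pow_two] using r26
      have he : f .e = 1 := by simpa [hs] using r19
      have hd : f .d = 1 := eq_one_of_odd (n := 1) (by rw [← pow_two, r3])
        (by simpa only [he, mul_one] using r12)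
      rw [e10, hd, mul_one, show 4 = 2 * 2 from rfl, pow_mul, r2, one_pow]
    · rw [pow_two] at r0 r1 r2 r3
      have h1 : f .c * (f .c * f .d) * (f .c)⁻¹ = (f .c * f .d)⁻¹ := by
        rw [← mul_assoc, r2, one_mul, mul_inv_rev, inv_eq_of_mul_eq_one_right r3]
      have h2 : f .c * f .a * (f .c)⁻¹ = f .a := by
        rw [e10, ← conj_pow, h1, inv_pow, ← e10, inv_eq_of_mul_eq_one_right r0]
      have h3 : f .b = f .c := by
        by_contra e
        refine not_commute_of_cube r1 r2 r7 e (Commute.mul_left rfl ?_)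
        rw [← h]
        exact mul_inv_eq_iff_eq_mul.1 h2
      rw [e10, ← h3, show 4 = 2 * 2 from rfl, pow_mul, r8, one_pow]
  have hb : f .b = 1 := eq_one_of_odd (n := 1) (by rw [← pow_two, r1])
    (by simpa only [ha, one_mul] using r5)
  have hc : f .c = 1 := eq_one_of_odd (n := 1) (by rw [← pow_two, r2])
    (by simpa only [hb, one_mul] using r7)
  have he : f .e = 1 := by simpa [ha, hb, hc] using r32
  have hd : f .d = 1 := eq_one_of_odd (n := 1) (by rw [← pow_two, r3])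
    (by simpa only [he, mul_one] using r12)
  have hs : f .s = 1 := eq_one_of_odd (n := 3)
    (by simpa only [hd, mul_one, pow_two] using r18) r14
  have hu : f .u = 1 := eq_one_of_odd (n := 1) (by simpa [ha, hc, pow_two] using r27)
    (by simpa [ha, hc, hs] using r36)
  have ht : f .t = 1 := eq_one_of_odd (n := 1) (by simpa [hu] using r34) r20
  cases x <;> assumption

theorem nc_of_th {H : Type*} [Group H] {f : Th.Gen → H}
    (R : ∀ r ∈ Th.extra, FreeGroup.lift f r = 1) (h1 : f .t ≠ 1) (h2 : f .a ≠ f .b) : NC H := by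
  simp only [Th.extra, List.forall_mem_cons, map_mul, map_pow, map_inv,
    FreeGroup.lift_apply_of] at R
  obtain ⟨r0, r1, -, -, -, r5, -, -, -, -, -, -, -, -, -, -, -, -, -, -, r20, r21, r22, -⟩ := R
  rw [pow_two] at r0 r1
  have c : ∀ {t a : H}, t⁻¹ * a⁻¹ * t * a = 1 → Commute t a := fun {t a} h => by
    rw [Commute, SemiconjBy, ← mul_one (a * t), ← h]; group
  exact nc_of_sep (MonoidHom.id _) Nat.prime_three (by norm_num) r20 r5 ((c r21).mul_right (c r22))
    h1 (c r21) (not_commute_of_cube r0 r1 r5 h2)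

theorem nc_Th (hn : ¬ IsMulCommutative Th) : NC Th := by
  have R : ∀ r ∈ Th.extra, FreeGroup.lift (fun x => (PresentedGroup.of x : Th)) r = 1 :=
    fun _ hr => extra_of hr
  have key := fun h => hn ⟨⟨comm_of_gen (s := 1) (th_triv_of R h)⟩⟩
  exact nc_of_th R (fun e => key (Or.inl e)) fun e => key (Or.inr e)

theorem nc_spor {K : Type*} [Group K] [Finite K] (hn : ¬ IsMulCommutative K)
    (h : IsSporadicGroup K) : IsoJ1 K ∨ NC K := by
  have key : ∀ {A : Type} [Group A], Nonempty (K ≃* A) → NC A → IsoJ1 K ∨ NC K :=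
    fun ⟨e⟩ h => Or.inr (h.of_equiv e)
  have key' : ∀ {A : Type} [Group A], Nonempty (K ≃* A) → (¬ IsMulCommutative A → NC A) →
      IsoJ1 K ∨ NC K := fun ⟨e⟩ h => Or.inr ((h (not_comm_of_equiv e hn)).of_equiv e)
  rcases h with h | h | h | h | h | h | h | h | h | h | h | h | h | h | h | h | h | h | h | h | h | h | h | h | h | h
  · exact key h nc_M11
  · exact key h (nc_M11.of_le inf_le_left)
  · exact key h nc_M22
  · exact key h (nc_M22.of_le inf_le_left)
  · exact key h nc_M24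
  · exact Or.inl h
  · exact key h nc_J2
  · exact key (ModelJ3.isoJ3_iff.1 h) nc_J3
  · obtain ⟨e⟩ := S1711.result
    exact key h ((nc_M24.of_equiv e).of_injective (Subgroup.subtype _) Subtype.val_injective)
  · exact key h nc_Co1
  · exact key h (nc_McL.of_le (inf_le_inf_right _ inf_le_left))
  · exact key h (nc_McL.of_le inf_le_left)
  · exact key h nc_McL
  · exact key h nc_HS
  · exact key h nc_Suz
  · exact key h nc_He
  · exact key h nc_Ru
  · exact key h nc_ON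
  · obtain ⟨F, _, _, -, ⟨e⟩⟩ := S1710.result
    exact key h ((nc_G2.of_equiv e).of_injective (Subgroup.subtype _) Subtype.val_injective)
  · exact key h nc_Fi22
  · exact key h nc_Fi23
  · exact key' h nc_Fi24
  · obtain ⟨L, -, -, -, ⟨f⟩, -⟩ := S1708.result
    obtain ⟨e⟩ := h
    haveI := Finite.of_equiv _ e.toEquiv
    exact key ⟨e⟩ ((((nc_HS.of_equiv f).of_surjective _ (QuotientGroup.mk'_surjective _)).of_injective
      (Subgroup.subtype _) Subtype.val_injective).of_injective (Subgroup.subtype _) Subtype.val_injective)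
  · exact key' h nc_Th
  · exact Or.inr (big_of_isoB hn h).nc
  · exact Or.inr (big_of_isoM hn h).nc

end Cfsg.Agent.QT
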