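import Mathlib
import Cfsg.Agent.QT.Tame
import Cfsg.Agent.QT.NCClass
import Cfsg.Agent.QT.NCExc
import Cfsg.Agent.QT.NCSpor
import Cfsg.Agent.K.OutExc
import Cfsg.Agent.Char.Burnside
import Cfsg.Agent.S0252
import Cfsg.Agent.S0255
import Cfsg.Agent.S2065
import Cfsg.Agent.S2602

/-!
Known simple groups all of whose Sylow subgroups of odd order are cyclic.
-/

set_option autoImplicit false

namespace Cfsg.Agent.QT

open Subgroup Cfsg

/-- `L₂(2ⁿ)`, `Sz(q)`, `L₂(p)`, `J₁`. -/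
def OnList (X : Type*) [Group X] : Prop :=
  (∃ (F : Type) (_ : Field F) (_ : Fintype F), CharP F 2 ∧
      Nonempty (X ≃* Matrix.ProjectiveSpecialLinearGroup (Fin 2) F)) ∨
    Lie.IsoSuzuki X ∨
    (∃ (F : Type) (_ : Field F) (_ : Fintype F), (Fintype.card F).Prime ∧ Fintype.card F ≠ 2 ∧
      Nonempty (X ≃* Matrix.ProjectiveSpecialLinearGroup (Fin 2) F)) ∨
    Spor.IsoJ1 X

theorem nc_alternating {n : ℕ} (hn : 6 ≤ n) : NC (alternatingGroup (Fin n)) := by
  let i : Fin 6 → Fin n := Fin.castLE hn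
  have hi : ∀ a b, i a = i b ↔ a = b := fun a b => (Fin.castLE_injective hn).eq_iff
  have h1 := Equiv.Perm.isThreeCycle_swap_mul_swap_same (a := i 0) (b := i 1) (c := i 2)
    (by simp [hi]) (by simp [hi]) (by simp [hi])
  have h2 := Equiv.Perm.isThreeCycle_swap_mul_swap_same (a := i 3) (b := i 4) (c := i 5)
    (by simp [hi]) (by simp [hi]) (by simp [hi])
  have c : ∀ a b c d : Fin 6, [a, b, c, d].Nodup →
      Commute (Equiv.swap (i a) (i b)) (Equiv.swap (i c) (i d)) := fun a b c d h =>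
    (Equiv.Perm.disjoint_swap_swap (h.map (Fin.castLE_injective hn))).commute
  refine nc_of_sep (Subgroup.subtype _) Nat.prime_three (by norm_num)
    (x := ⟨_, h1.mem_alternatingGroup⟩) (y := ⟨_, h2.mem_alternatingGroup⟩)
    (Subtype.ext (h1.orderOf ▸ pow_orderOf_eq_one _)) (Subtype.ext (h2.orderOf ▸ pow_orderOf_eq_one _))
    (Subtype.ext (((c _ _ _ _ (by decide)).mul_right (c _ _ _ _ (by decide))).mul_left
      ((c _ _ _ _ (by decide)).mul_right (c _ _ _ _ (by decide)))))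
    (fun e => h1.isCycle.ne_one (congrArg Subtype.val e))
    ((c 0 1 3 4 (by decide)).mul_left (c 0 2 3 4 (by decide)))
    (not_commute_of_cube (Equiv.swap_mul_self _ _) (Equiv.swap_mul_self _ _)
      (h2.orderOf ▸ pow_orderOf_eq_one _) fun e => ?_)
  simpa [hi] using congrArg (fun g : Equiv.Perm (Fin n) => g (i 3)) e

theorem onList_or_nc_PSL {K : Type*} [Group K] (h : IsPSL K) : OnList K ∨ NC K := by
  obtain ⟨F, _, _, n, hn, -, ⟨e⟩⟩ := h
  obtain ⟨p, ⟨hp⟩, _, f, hf, hq⟩ := exists_char F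
  by_cases hp2 : p = 2
  · subst hp2
    rcases hn.eq_or_lt with rfl | hn
    · exact Or.inl (Or.inl ⟨F, _, inferInstance, inferInstance, ⟨e⟩⟩)
    rcases (Nat.succ_le_of_lt hn).eq_or_lt with rfl | hn
    · by_cases h2 : Fintype.card F = 2
      · haveI : Fact (Nat.Prime 7) := ⟨by norm_num⟩
        obtain ⟨e'⟩ := S0255.result (F := ZMod 7) (ZMod.card 7) h2
        exact Or.inl (Or.inr (Or.inr (Or.inl ⟨ZMod 7, inferInstance, inferInstance,
          by rw [ZMod.card]; norm_num, by rw [ZMod.card]; norm_num, ⟨e.trans e'.symm⟩⟩)))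
      · exact Or.inr ((nc_PSL_three h2).of_equiv e)
    · exact Or.inr ((nc_PSL_even hn).of_equiv e)
  · rcases hn.eq_or_lt with rfl | hn
    · rcases hf.eq_or_lt with rfl | hf
      · rw [pow_one] at hq
        exact Or.inl (Or.inr (Or.inr (Or.inl ⟨F, _, _, hq ▸ hp, hq ▸ hp2, ⟨e⟩⟩)))
      · exact Or.inr ((nc_PSL_two_odd hp hp2 hq hf).of_equiv e)
    · exact Or.inr ((nc_PSL_odd hp hp2 hn).of_equiv e)

theorem onList_or_nc {K : Type*} [Group K] [Finite K] (hna : ¬ IsMulCommutative K)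
    (h : IsKnownSimple' K) : OnList K ∨ NC K := by
  rcases h with h | ⟨n, hn, ⟨e⟩⟩ | h | ⟨F, _, _, m, hm, -, ⟨e⟩⟩ | ⟨F, _, _, n, q, hF, hn, -, ⟨e⟩⟩ |
    ⟨F, _, _, m, hm, hF, ⟨e⟩⟩ | ⟨F, _, _, m, hm, ⟨e⟩⟩ | ⟨F, _, _, m, a, b, hm, hab, ⟨e⟩⟩ | h | h
  · haveI : Fact (Nat.card K).Prime := ⟨h⟩
    haveI : IsCyclic K := isCyclic_of_prime_card (p := Nat.card K) rfl
    exact absurd IsCyclic.isMulCommutative hna
  · rcases hn.eq_or_lt with rfl | hn
    · letI := Fintype.ofFinite (GaloisField 2 2)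
      obtain ⟨e'⟩ := S0252.result (F := GaloisField 2 2)
        (by rw [← Nat.card_eq_fintype_card, GaloisField.card 2 2 two_ne_zero]; rfl)
      exact Or.inl (Or.inl ⟨GaloisField 2 2, _, inferInstance, inferInstance, ⟨e.trans e'.symm⟩⟩)
    · exact Or.inr ((nc_alternating hn).of_equiv e)
  · exact onList_or_nc_PSL h
  · exact Or.inr ((nc_PSp hm).of_equiv e)
  · exact Or.inr ((nc_PSU hF hn).of_equiv e)
  · exact Or.inr ((nc_POmegaOdd hF hm).of_equiv e)
  · exact Or.inr ((nc_POmegaPlus hm).of_equiv e)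
  · exact Or.inr ((nc_POmegaMinus hm a b hab).of_equiv e)
  · exact (nc_exc h).imp_left fun h => Or.inr (Or.inl h)
  · exact (nc_spor hna h).imp_left fun h => Or.inr (Or.inr (Or.inr h))

theorem onList_of_rank {K : Type*} [Group K] [Finite K] [IsSimpleGroup K]
    (hna : ¬ IsMulCommutative K) (h : IsKnownSimple' K)
    (hr : ∀ p : ℕ, p.Prime → p ≠ 2 → PRankLE p 1 K) : OnList K :=
  (onList_or_nc hna h).resolve_right fun h => h.not_rank hr

theorem four_le_card_of_PSL_two {K F : Type*} [Group K] [IsSimpleGroup K] [Field F] [Fintype F]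
    (hna : ¬ IsMulCommutative K) (e : K ≃* Matrix.ProjectiveSpecialLinearGroup (Fin 2) F) :
    4 ≤ Fintype.card F := by
  by_contra h
  have h1 : 1 < Fintype.card F := Fintype.one_lt_card
  have h2 := Class.gcd_mul_card_PSL2 (F := F)
  rw [← Nat.card_congr e.toEquiv] at h2
  haveI := Finite.of_equiv _ e.symm.toEquiv
  have h3 : Nat.card K = 6 ∨ Nat.card K = 12 := by
    interval_cases Fintype.card F <;> simp at h2 <;> omega
  exact hna ⟨⟨IsSimpleGroup.comm_iff_isSolvable.2 (Char.isSolvable_of_card_dvd_pow_mul_pow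
    Nat.prime_two Nat.prime_three K (a := 2) (b := 1)
    (by rcases h3 with h | h <;> rw [h] <;> norm_num))⟩⟩

theorem OnList.out_comm {K : Type*} [Group K] [Finite K] [IsSimpleGroup K]
    (hna : ¬ IsMulCommutative K) (h : OnList K) (a b : Out K) : a * b = b * a := by
  suffices h : IsCyclic (Out K) from h.isMulCommutative.1.1 a b
  have key : ∀ {A : Type} [Group A], Nonempty (K ≃* A) → IsCyclic (Out A) → IsCyclic (Out K) :=
    fun ⟨e⟩ h => isCyclic_of_surjective _ (KSG.outCongr e).symm.surjective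
  rcases h with ⟨F, _, _, _, ⟨e⟩⟩ | ⟨F, _, _, m, h1, h2, e⟩ | ⟨F, _, _, h1, -, ⟨e⟩⟩ | h
  · obtain ⟨f, hf, hq⟩ := UL.card_eq_pow F 2 Nat.prime_two
    obtain ⟨φ, -, -, h3⟩ := S2602.result hf hq (hq ▸ four_le_card_of_PSL_two hna e)
    rw [(Nat.coprime_two_left.2 (Nat.Even.sub_odd Nat.one_le_two_pow
      (Nat.even_pow.2 ⟨even_two, by omega⟩) odd_one) : Nat.gcd _ _ = 1), card_eq_one] at h3
    exact key ⟨e⟩ (isCyclic_of_injective φ ((MonoidHom.ker_eq_bot_iff φ).1 h3))
  · have := Chev.SzField.of_fintype h1 h2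
    haveI := Agent.K.isCyclic_ringEquiv F
    refine key e (isCyclic_of_surjective ((KSG.outCongr (Chev.Suz.lieEquiv F)).toMonoidHom.comp
      ((QuotientGroup.mk' _).comp (Agent.K.szField F m)))
      ((KSG.outCongr (Chev.Suz.lieEquiv F)).surjective.comp fun x => ?_))
    obtain ⟨θ, rfl⟩ := QuotientGroup.mk_surjective x
    obtain ⟨g, f, rfl⟩ := Chev.Suz.exists_eq_conj_mul_fieldAut θ
    exact ⟨f, by rw [QuotientGroup.mk_mul, Agent.K.mk_conj, one_mul]; rfl⟩
  · haveI := Fact.mk h1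
    obtain ⟨φ, -, h3, -⟩ := S2602.result (p := Fintype.card F) le_rfl (pow_one _).symm
      ((four_le_card_of_PSL_two hna e).trans_eq (pow_one _).symm)
    exact key ⟨e⟩ (isCyclic_of_surjective φ.ker.subtype fun x => ⟨⟨x, Subsingleton.elim _ _⟩, rfl⟩)
  · haveI := (Nat.card_eq_one_iff_unique.1 S2065.result).1
    exact key h inferInstance

end Cfsg.Agent.QT
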