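import Cfsg.Agent.QT.QrcB
import Cfsg.Prelude.Def_Quasithin

/-!
The `qrc`-lemma: the case `V ≤ O₂(L)` for a minimal parabolic group `L`.
-/

set_option autoImplicit false
set_option linter.unusedSectionVars false

namespace Cfsg.Agent.QT.Qrc

open Subgroup Cfsg Cfsg.Agent.PLocal Cfsg.Agent.PLocal.Amb Cfsg.Agent.PLocal.TV
open Cfsg.Agent.PLocal.Bk
open Cfsg.Agent.PLocal.CP (ncl IsCharP MinOver)
open scoped commutatorElement Cfsg.Agent.PLocal.CP

variable {G : Type*} [Group G] [Finite G] {p : ℕ} [Fact p.Prime]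

/-- at most one noncentral chief factor -/
theorem one_factor {T M L U A X : Subgroup G} (hT : IsSyl p T L) (hM : MinOver T M L)
    (hU : IsElementaryAbelian p U) (hUO : U ≤ pCoreOf p L) (nU : L ≤ 𝐍[U])
    (hP : P2 U (pCoreOf p L)) (hA : A ∈ maxEA p T) (hAU : ¬ A ≤ 𝐂[U]) (hX : X ≤ U)
    (nX : L ≤ 𝐍[X]) (h1 : ¬ X ≤ 𝐂[𝐎[p, L]]) : ⁅U, 𝐎[p, L]⁆ ≤ X := by
  by_contra h2
  have hUL := hUO.trans (pCoreOf_le p L)
  obtain ⟨B, b1, b2, b3, b4⟩ := exists_quad hU (hUO.trans hT.pCoreOf_le) (hT.le.trans nU) hA hAU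
  have hB := isEA_mono hA.2.1 b1
  have hBL := b1.trans (hA.1.trans hT.le)
  have q1 : (pCoreOf p L).relIndex B ≠ 1 := fun e =>
    b3 (hP.not_off (relIndex_eq_one.1 e) b2 b4)
  have q0 := relIndex_pos (pCoreOf p L) B
  have s1 := star_chain hT hM (isEA_mono hU hX) bot_le (hX.trans hUL) nX le_normalizer_of_normal
    (fun k => h1 (commutator_eq_bot_iff_le_centralizer.1 (le_bot_iff.1 k))) hB hBL
  have s2 := star_chain hT hM hU hX hUL nU nX h2 hB hBL
  rw [CommMod.centMod_bot] at s1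
  have s3 : (𝐂[B]).relIndex X ≤ (𝐂[B]).relIndex (CommMod.centMod B X ⊓ U) :=
    relIndex_le_of_le_right (le_inf (CommMod.le_centMod.2 ⟨le_normalizer,
      WC.commutator_le_left_of (hBL.trans nX)⟩) hX) (relIndex_pos _ _).ne'
  have s4 : (𝐂[B] ⊓ CommMod.centMod B X).relIndex U ≤ (𝐂[B]).relIndex U := by
    rw [← inf_relIndex_right 𝐂[B]]
    refine BM.relIndex_anti_left _ (le_inf inf_le_left (CommMod.le_centMod.2
      ⟨inf_le_right.trans (hUL.trans nX), ?_⟩))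
    rw [commutator_eq_bot_iff_le_centralizer.2 inf_le_left]; exact bot_le
  rw [← relIndex_inf_mul_relIndex] at s4
  have s5 := (Nat.mul_le_mul (s1.trans s3) s2).trans s4
  have s6 : (𝐂[U]).relIndex B ≤ (𝐂[U]).relIndex (pCoreOf p L ⊓ B) * (pCoreOf p L).relIndex B := by
    rw [relIndex_inf_mul_relIndex]
    exact BM.relIndex_anti_left _ inf_le_left
  by_cases h3 : pCoreOf p L ⊓ B ≤ 𝐂[U]
  · rw [relIndex_eq_one.2 h3] at s6
    have : 2 ≤ (pCoreOf p L).relIndex B := by omega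
    nlinarith
  · have s7 := (hP _ inf_le_left (quad_mono b2 le_rfl inf_le_right) h3).trans_le
      (BM.relIndex_anti_left U (Amb.centralizer_anti (inf_le_right : pCoreOf p L ⊓ B ≤ B)))
    nlinarith

theorem core {T M L V S : Subgroup G} (hT : IsSyl p T L) (hM : MinOver T M L)
    (hV : IsElementaryAbelian p V) (nV : T ≤ 𝐍[V]) (hVO : V ≤ pCoreOf p L) (hLV : ¬ L ≤ 𝐍[V])
    (hP : P2 V T) (hJ : ¬ 𝐉[p, T] ≤ pCoreOf p L) (hS : S ≤ 𝐂[V])
    (hgen : 𝐎[p, L] ⊔ S ⊔ pCoreOf p L = L) : L ⊓ 𝐂[ΩZ[p, T]] ≤ M := by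
  set O := pCoreOf p L with hO
  set K := 𝐎[p, L] with hK
  have hOT : O ≤ T := hT.pCoreOf_le
  have hOL : O ≤ L := pCoreOf_le p L
  have hKL : K ≤ L := pRes_le p L
  have hSL : S ≤ L := (le_sup_right.trans le_sup_left).trans hgen.le
  have nO : L ≤ 𝐍[O] := le_normalizer_pCoreOf p L
  have nK : L ≤ 𝐍[K] := le_normalizer_pRes p L
  have hOp : IsPGroup p O := isPGroup_pCoreOf p L
  have hPx : ∀ x ∈ L, P2 cj(x, V) O := fun x hx => (hP.mono hOT).cj (nO hx)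
  have hU : IsElementaryAbelian p (ncl V L) := WC.isEA_ncl hV fun g hg =>
    le_cent_of_p2 (isEA_le_centralizer (isEA_map hV _)) (isEA_le_centralizer hV)
      (cj_le_of_mem_normalizer hVO (nO hg)) hVO (by
        rw [normalizer_cj, ← cj_of_mem_normalizer (nO hg)]; exact cj_mono g (hOT.trans nV))
      (hOT.trans nV) (hPx g hg) (hP.mono hOT)
  have hPU : P2 (ncl V L) O := P2.iSup fun g => hPx g g.2
  set U := ncl V L with hUe
  have hVU : V ≤ U := CP.le_ncl V L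
  have hUO : U ≤ O := CP.ncl_le hVO nO
  have nU : L ≤ 𝐍[U] := CP.le_normalizer_ncl V L
  have hUc := isEA_le_centralizer hU
  have hUp := isEA_isPGroup hU
  have ab : ∀ X ≤ U, U ≤ 𝐍[X] := fun X hX =>
    (hUc.trans (Amb.centralizer_anti hX)).trans (centralizer_le_normalizer' _)
  have hUK : ¬ U ≤ 𝐂[K] := fun k => hLV (SA.le_norm_of hT nV (hVU.trans k))
  have core_of : ∀ {A Z : Subgroup G}, A ≤ T → L ≤ 𝐍[Z] → ¬ Z ≤ 𝐂[K] → A ≤ 𝐂[Z] → A ≤ O :=
    fun {A Z} h1 h2 h3 h4 => SA.le_core_of (D := ⊥) (hM.pIrr hT.pgrp) (hT.pgrp.to_le h1)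
      (h1.trans hT.le) h2 le_normalizer_of_normal
      (commutator_eq_bot_iff_le_centralizer.2 (cent_symm h4)).le
      fun k => h3 (commutator_eq_bot_iff_le_centralizer.1 (le_bot_iff.1 k))
  obtain ⟨A, hA, hAO⟩ : ∃ A ∈ maxEA p T, ¬ A ≤ O := by
    by_contra! k; exact hJ (thompsonSubgroupOf_le_iff.2 k)
  have c1 := fun {X} => one_factor (X := X) hT hM hU hUO nU hPU hA fun k => hAO (core_of hA.1 nU hUK k)
  have hUO' : ⁅U, O⁆ ≤ U := WC.commutator_le_left_of (hOL.trans nU)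
  have a1 : ⁅U, O⁆ ≤ 𝐂[K] := by
    by_contra k
    have k1 := c1 hUO' (le_normalizer_commutator nU nO) k
    have k2 : U ≤ V ⊔ ⁅U, O⁆ := CP.ncl_le le_sup_left (hT.pRes_sup.ge.trans (sup_le
      (WC.le_normalizer_of_commutator_le_of_le (k1.trans le_sup_right) (sup_le hVU hUO'))
      (le_normalizer_sup nV (hT.le.trans (le_normalizer_commutator nU nO)))))
    have k3 := le_of_le_sup_comm hUp hUc hOp (hOL.trans nU) (hOT.trans nV) hVU k2
    exact hLV (le_antisymm k3 hVU ▸ nU)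
  set C := U ⊓ 𝐂[K] with hC
  have nC : L ≤ 𝐍[C] := le_normalizer_inf nU (le_normalizer_centralizer nK)
  have a2 : ⁅U, O⁆ ≤ C := le_inf hUO' a1
  set Q := ⁅O, K⁆ with hQ
  have hQO : Q ≤ O := WC.commutator_le_left_of (hKL.trans nO)
  have nQ : L ≤ 𝐍[Q] := le_normalizer_commutator nO nK
  have eQ : ⁅Q, K⁆ = Q := CP.commutator_pRes_pRes hOp nO
  have a3 : Q ≤ 𝐂[C] := commutator_eq_bot_iff_le_centralizer.1
    (commutator_commutator_eq_bot_of_rotate
      (by rw [commutator_eq_bot_iff_le_centralizer.2 (cent_symm inf_le_right), commutator_bot_left])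
      (commutator_eq_bot_iff_le_centralizer.2 ((commutator_mono inf_le_left le_rfl).trans a1)))
  have a4 : ⁅U, Q⁆ ≤ C := (commutator_mono le_rfl hQO).trans a2
  have a5 : ⁅⁅U, Q⁆, Q⁆ = ⊥ := commutator_eq_bot_iff_le_centralizer.2 (a4.trans (cent_symm a3))
  have a6 : Q ≤ 𝐂[V] := by
    refine hP.not_off (hQO.trans hOT) (quad_mono a5 hVU le_rfl) (off_of_sdo (isEA_le_centralizer hV)
      ((hQO.trans hOT).trans nV) (quad_mono a5 hVU le_rfl) fun v hv hv' w hw => ?_)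
    have hX₀ : zpowers v ⊔ C ≤ U := sup_le (zpowers_le.2 (hVU hv)) inf_le_left
    set W := ⁅zpowers v ⊔ C, Q⁆ with hW
    have hWC : W ≤ C := (commutator_mono hX₀ le_rfl).trans a4
    have nW : L ≤ 𝐍[W] := by
      rw [← hgen]
      refine sup_le (sup_le (BM.norm_of_le_cent (hWC.trans inf_le_right))
        (le_normalizer_commutator (le_normalizer_sup ?_ (hSL.trans nC)) (hSL.trans nQ)))
        (le_normalizer_commutator (WC.le_normalizer_of_commutator_le_of_le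
          (a2.trans le_sup_right) hX₀) (hOL.trans nQ))
      exact (hS.trans (Amb.centralizer_anti (zpowers_le.2 hv))).trans (centralizer_le_normalizer' _)
    have b1 := c1 (X := U ⊓ CommMod.centMod Q W) inf_le_left (le_normalizer_inf nU
      ((le_inf nQ nW).trans (CommMod.inf_normalizer_le_normalizer_centMod _ _))) fun k =>
        hv' (cent_symm a3 ⟨hVU hv, k ⟨hVU hv, ab W (hWC.trans inf_le_left) (hVU hv), fun q hq =>
          commutator_mem_commutator (mem_sup_left (mem_zpowers v)) hq⟩⟩)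
    have b2 : ⁅⁅Q, K⁆, U⁆ ≤ W := CommMod.three_subgroups_mod ((hQO.trans hOL).trans nW)
      (hKL.trans nW) ((hUO.trans hOL).trans nW) (by
        rw [commutator_comm K]
        exact (commutator_mono (b1.trans inf_le_right) le_rfl).trans
          (CommMod.commutator_centMod_le _ _)) (by
        rw [commutator_eq_bot_iff_le_centralizer.2 (a4.trans inf_le_right)]; exact bot_le)
    rw [eQ, commutator_comm] at b2
    have m : ∀ a ∈ Q, ⁅v, a⁆ ∈ C := fun a ha => a4 (commutator_mem_commutator (hVU hv) ha)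
    let φ : Q →* G := MonoidHom.mk' (fun a => ⁅v, (a : G)⁆) fun a b => by
      rw [coe_mul, BM.comm_mul_right, ← a3 a.2 _ (m b b.2), mul_inv_cancel_right]
    have b3 : φ.range ≤ U := by rintro _ ⟨a, rfl⟩; exact (m a a.2).1
    have b4 : W ≤ φ.range := CommMod.commutator_sup_le ((le_sup_left.trans hX₀).trans (ab _ b3))
      (inf_le_left.trans (ab _ b3)) (CommMod.commutator_zpowers_le (ab _ b3 (hVU hv))
        fun a ha => ⟨⟨a, ha⟩, rfl⟩) (by
        rw [commutator_eq_bot_iff_le_centralizer.2 (cent_symm a3)]; exact bot_le)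
    obtain ⟨a, ha⟩ := b4 (b2 (commutator_mono hVU le_rfl hw))
    exact ⟨a, a.2, ha⟩
  have a7 : Q ≤ 𝐂[U] := CP.le_centralizer_ncl a6 nQ
  have a8 : ⁅U, K⁆ ≤ 𝐂[O] := commutator_eq_bot_iff_le_centralizer.1
    (commutator_commutator_eq_bot_of_rotate
      (by rw [commutator_comm K]; exact commutator_eq_bot_iff_le_centralizer.2 a7)
      (by rw [commutator_comm O]; exact commutator_eq_bot_iff_le_centralizer.2 a1))
  have hUK' : ⁅U, K⁆ ≤ U := WC.commutator_le_left_of (hKL.trans nU)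
  have a9 : ⁅U, K⁆ ≤ ΩZ[p, O] := CP.le_omegaZ (isEA_mono hU hUK') (hUK'.trans hUO) a8
  have hZ := CP.omegaZ_isEA (p := p) O
  have hZT := (CP.omegaZ_le (p := p) O).trans hOT
  have nZ : L ≤ 𝐍[ΩZ[p, O]] := nO.trans (CP.normalizer_le_normalizer_omegaZ O)
  have hZK : ¬ ΩZ[p, O] ≤ 𝐂[K] := fun k => hUK (SA.cent_of_comm_comm hUp nU (a9.trans k))
  refine le_trans (inf_le_inf_left L (Amb.centralizer_anti ?_)) (fixed hT hM hZ (hZT.trans hT.le)
    nZ (CP.le_centralizer_omegaZ O) ((hM.pRes_le_or hT.pgrp inf_le_left (le_normalizer_inf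
      le_normalizer (le_normalizer_centralizer nZ))).resolve_left
      fun k => hZK (cent_symm (k.trans inf_le_right))) hA.2.1 (hA.1.trans hT.le)
    (fun k => hAO (core_of hA.1 nZ hZK k)) (relIndex_le_of_member hA hZ hZT))
  exact CP.le_omegaZ (isEA_mono hZ inf_le_left) (inf_le_left.trans hZT) inf_le_right

theorem P2.baumann_le {T V : Subgroup G} (h : P2 V T) (hV : IsElementaryAbelian p V) (hVT : V ≤ T)
    (hn : T ≤ 𝐍[V]) : V ≤ 𝐉[p, T] ∧ 𝐁[p, T] ≤ 𝐂[V] := by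
  have h1 := cent_symm (h.thompson_le hV hVT hn)
  obtain ⟨A, hA⟩ := maxEA_nonempty p T
  have h2 : V ≤ 𝐉[p, T] := (le_of_mem_maxEA_of_centralizes hA hVT (isEA_iff.1 hV).2
    (h1.trans (Amb.centralizer_anti (le_thompsonSubgroupOf hA)))).trans (le_thompsonSubgroupOf hA)
  exact ⟨h2, inf_le_right.trans (Amb.centralizer_anti (CP.le_omegaZ hV h2 h1))⟩

theorem caseC {T H M V : Subgroup G} (hT : IsSyl 2 T ⊤)
    (hev : ∀ H, T ≤ H → pCoreOf 2 H ≠ ⊥ → IsCharP 2 H) (hTH : T ≤ H) (hcH : IsCharP 2 H)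
    (hTM : T ≤ M) (hHM : ¬ H ≤ M) (hV : IsElementaryAbelian 2 V) (nV : T ≤ 𝐍[V])
    (hVQ : V ≤ pCoreOf 2 H) (hV1 : V ≠ ⊥) (hHV : H ⊓ 𝐍[V] ≤ M) (hP : P2 V T)
    (key : ∀ Y, Y ≠ ⊥ → Y ≤ 𝐁[2, T] → 𝐍[𝐁[2, T]] ≤ 𝐍[Y] → H ⊓ 𝐍[Y] ≤ M) : False := by
  have : Fact (Nat.Prime 2) := ⟨Nat.prime_two⟩
  have hTH' := hT.mono hTH le_top
  have hQT := hTH'.pCoreOf_le
  obtain ⟨h1, h2⟩ := hP.baumann_le hV (hVQ.trans hQT) nV
  have hb := bau_baumann hT
  have hBT := Bk.baumann_le (p := 2) T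
  have hJB := thompson_le_baumann (p := 2) T
  set S := 𝐁[2, T] with hS
  set Q := pCoreOf 2 H with hQ
  have hS1 : S ≠ ⊥ := fun e => hV1 (le_bot_iff.1 (h1.trans (hJB.trans e.le)))
  have hSQ : S ⊔ Q ≤ T := sup_le hBT hQT
  obtain ⟨L, T₀, hLH, hLM, hT₀, k1, k2, hmin⟩ : ∃ L T₀, L ≤ H ∧ ¬ L ≤ M ∧ IsSyl 2 T₀ L ∧
      S ⊔ Q ≤ T₀ ∧ T₀ ≤ T ∧ ∀ X, S ⊔ Q ≤ X → X < L → X ≤ M := by
    obtain ⟨L, ⟨l1, l2, l3⟩, hL⟩ := (wellFounded_lt (α := Subgroup G)).has_min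
      {L | S ⊔ Q ≤ L ∧ L ≤ H ∧ ¬ L ≤ M} ⟨H, hSQ.trans hTH, le_rfl, hHM⟩
    obtain ⟨P, p1, p2⟩ := exists_isSyl_ge (hT.pgrp.to_le hSQ) l1
    obtain ⟨g, hg, p3⟩ := hTH'.exists_cj_le p1.pgrp (p1.le.trans l2)
    have e1 : cj(g, S) = S := hb.isWC.eq g T hT.pgrp hBT
      ((cj_mono g (le_sup_left.trans p2)).trans p3)
    have hgM : g ∈ M := key S hS1 le_rfl le_rfl ⟨hg, cj_eq_iff.1 e1⟩
    have e2 : cj(g, S ⊔ Q) = S ⊔ Q := by
      rw [Amb.cj_sup, e1, cj_of_mem_normalizer (le_normalizer_pCoreOf 2 H hg)]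
    refine ⟨cj(g, L), cj(g, P), cj_le_of_mem l2 hg, fun k => l3 ?_, p1.cj g, e2 ▸ cj_mono g p2, p3,
      fun X x1 x2 => ?_⟩
    · rwa [cj_le_iff, cj_of_mem (inv_mem hgM)] at k
    · rw [← cj_cj_inv g X] at x2 ⊢
      rw [cj_lt_cj_iff] at x2
      refine cj_le_of_mem ?_ hgM
      by_contra k
      exact hL _ ⟨by rwa [← e2, cj_le_iff] at x1, x2.le.trans l2, k⟩ x2
  have e : 𝐁[2, T₀] = S := baumann_eq_of_le (le_sup_left.trans k1) k2
  have hQL : Q ≤ L := (le_sup_right.trans k1).trans hT₀.le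
  have hQO : Q ≤ pCoreOf 2 L := le_pCoreOf (isPGroup_pCoreOf 2 H) hQL
    (hLH.trans (le_normalizer_pCoreOf 2 H))
  have hM : MinOver T₀ (L ⊓ M) L := CP.minOver_of_isSyl hT₀
    (fun k => hLM ((le_inf hLH (k.trans (e ▸ normalizer_le_normalizer_baumann T₀))).trans
      (key S hS1 le_rfl le_rfl))) (le_inf hT₀.le (k2.trans hTM)) (inf_lt_left.2 hLM)
    fun X x1 x2 => le_inf x2.le (hmin X (k1.trans x1) x2)
  have eJ : 𝐉[2, T₀] = 𝐉[2, T] :=
    thompsonSubgroupOf_eq_of_le (hJB.trans (le_sup_left.trans k1)) k2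
  refine push_baum hT hev hTH hcH hS1 key hLH (hcH.of_pCoreOf_le hLH hQL) hT₀ hLM e
    ((core hT₀ hM hV (k2.trans nV) (hVQ.trans hQO) (fun k => hLM ((le_inf hLH k).trans hHV))
      (hP.mono k2) (fun k => hLM ?_) h2 ?_).trans inf_le_right)
  · refine (le_inf hLH ?_).trans (key 𝐉[2, T] (fun e => hV1 (le_bot_iff.1 (h1.trans e.le))) hJB ?_)
    · rw [← eJ, ← thompsonSubgroupOf_eq_of_le k hT₀.pCoreOf_le]
      exact (le_normalizer_pCoreOf 2 L).trans (ch_thompson _).normalizer_le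
    · rw [← thompsonSubgroupOf_eq_of_le hJB hBT]
      exact (ch_thompson _).normalizer_le
  · have k3 : 𝐎[2, L] ⊔ S ⊔ pCoreOf 2 L ≤ L :=
      sup_le (sup_le (pRes_le 2 L) ((le_sup_left.trans k1).trans hT₀.le)) (pCoreOf_le 2 L)
    by_contra k4
    exact hM.not_pRes_le hT₀ (le_inf (pRes_le 2 L) ((le_sup_left.trans le_sup_left).trans
      (hmin _ (sup_le_sup le_sup_right hQO) (lt_of_le_of_ne k3 k4))))

theorem caseB {T H M V R D : Subgroup G} (hT : IsSyl 2 T H) (hcH : IsCharP 2 H)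
    (hV : IsElementaryAbelian 2 V) (hVT : V ≤ T) (hR : T ⊓ 𝐂[V] = R) (hD : T ⊓ D = R)
    (nD : H ⊓ M ≤ 𝐍[D]) (hJ : 𝐉[2, T] ≤ R) (nJ : H ⊓ 𝐍[𝐉[2, T]] ≤ M)
    (hn : ¬ V ≤ pCoreOf 2 H) : ∃ B ≤ T, Cub V B := by
  have : Fact (Nat.Prime 2) := ⟨Nat.prime_two⟩
  have hi := H.subtype_injective
  have hRT : R ≤ T := hR ▸ inf_le_left
  have hRH := hRT.trans hT.le
  have hVR : V ≤ R := hR ▸ le_inf hVT (isEA_le_centralizer hV)
  have hVY : V ≤ ΩZ[2, R] := CP.le_omegaZ hV hVR (cent_symm (hR ▸ inf_le_right))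
  have wc : ∀ g ∈ H, cj(g, R) ≤ T → cj(g, R) = R := fun g hg k => by
    have k1 : g ∈ 𝐍[𝐉[2, T]] := mem_normalizer_of_cj_le (cj_le_iff.2
      (thompsonSubgroupOf_le_iff.2 fun A hA => cj_le_iff.1 (le_thompsonSubgroupOf
        (mem_maxEA_of_card_le hA ((cj_mono g ((le_thompsonSubgroupOf hA).trans hJ)).trans k)
          (isEA_map hA.2.1 _) (card_cj g A).ge))))
    refine cj_eq_iff.2 (mem_normalizer_of_cj_le ((le_inf k ?_).trans hD.le))
    exact cj_le_of_mem_normalizer (hD.ge.trans inf_le_right) (nD ⟨hg, nJ ⟨hg, k1⟩⟩)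
  obtain ⟨S, hS⟩ := hT.exists_sylow
  have hw : WC.IsWC 2 (R.subgroupOf H) := WC.isWC_of ⟨S, hS ▸ subgroupOf_mono H hRT, fun g hg => by
    change cj(g, R.subgroupOf H) ≤ _ at hg
    rw [cj_subgroupOf] at hg ⊢
    rw [hS] at hg
    rw [wc g g.2 fun x hx => hg (x := ⟨x, cj_le_of_mem hRH g.2 hx⟩) hx]⟩
  have eY : (ΩZ[2, R.subgroupOf H]).map H.subtype = ΩZ[2, R] := by
    rw [map_omegaOne_center _ hi, map_subgroupOf_of_le hRH]
  obtain ⟨B, b1, b2⟩ := exists_cub (CP.isCharP_top_iff.2 (CP.isCharP_iff.1 hcH)) (isSyl_top S) hw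
    (hS ▸ subgroupOf_mono H hRT) (CP.omegaZ_isEA _) (CP.omegaZ_le _) (CP.le_centralizer_omegaZ _)
    (CP.normalizer_le_normalizer_omegaZ _) fun k => hn (hVY.trans (by
      rw [← eY, pCoreOf_top] at *
      exact map_mono k))
  have c := b2.map hi
  rw [eY] at c
  have hBT : B.map H.subtype ≤ T := by
    rw [← map_subgroupOf_of_le hT.le, ← hS]; exact map_mono b1
  have e : 𝐂[V] ⊓ B.map H.subtype = 𝐂[ΩZ[2, R]] ⊓ B.map H.subtype :=
    le_antisymm (le_inf (le_trans (hR ▸ le_inf (inf_le_right.trans hBT) inf_le_left)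
      (CP.le_centralizer_omegaZ R)) inf_le_right)
      (inf_le_inf_right _ (Amb.centralizer_anti hVY))
  refine ⟨_, hBT, c.ea, fun k => c.ne (((le_inf k le_rfl).trans e.le).trans inf_le_left),
    le_bot_iff.1 (c.cub ▸ commutator_mono (commutator_mono (commutator_mono hVY le_rfl) le_rfl)
      le_rfl), ?_⟩
  rw [← inf_relIndex_right 𝐂[V], e, inf_relIndex_right]
  exact (relIndex_le_of_le_right hVY (relIndex_pos _ _).ne').trans c.idx

/-- a quadratic action on an elementary abelian `2`-group induces an elementary abelian group -/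
theorem induces_of_quad {V B : Subgroup G} (hV : IsElementaryAbelian 2 V) (hn : B ≤ 𝐍[V])
    (hq : ⁅⁅V, B⁆, B⁆ = ⊥) (h : ¬ B ≤ 𝐂[V]) : InducesElemAbelianTwoGroupOn B V := by
  refine ⟨h, fun b hb v hv => ?_, fun a ha b hb => ?_⟩
  · have m := commutator_mem_commutator hv hb
    rw [← commutatorElement_eq_one_iff_mul_comm, pow_two, BM.comm_mul_right,
      commutator_eq_bot_iff_le_centralizer.1 hq m b hb, mul_inv_cancel_right, ← pow_two]
    exact hV.2 _ (WC.commutator_le_left_of hn m)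
  · exact commutator_eq_bot_iff_le_centralizer.1 (commutator_commutator_eq_bot_of_rotate
      (by rwa [commutator_comm B V]) hq) (commutator_mem_commutator ha hb)

end Cfsg.Agent.QT.Qrc
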