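import Mathlib
import Cfsg.Agent.QT.Tame
import Cfsg.Agent.QT.Cox
import Cfsg.Agent.K.OutSpor
import Cfsg.Agent.K.OutAlt
import Cfsg.Agent.K.OutLin
import Cfsg.Agent.K.OutOrth
import Cfsg.Agent.K.OutTits
import Cfsg.Agent.K.OutExc

/-!
The outer automorphism group of a known simple group is tame, unless the group is big.
-/

set_option autoImplicit false

namespace Cfsg.Agent.QT

open Subgroup Cfsg

theorem tame_or_big {K : Type*} [Group K] [Finite K] [IsSimpleGroup K] (hna : ¬ IsMulCommutative K)
    (h : IsKnownSimple' K) : Tame (Out K) ∨ Big K := by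
  rcases h with h | h | h | h | h | h | h | h | h | h
  · haveI : Fact (Nat.card K).Prime := ⟨h⟩
    haveI : IsCyclic K := isCyclic_of_prime_card (p := Nat.card K) rfl
    exact absurd IsCyclic.isMulCommutative hna
  · exact Or.inl (Agent.K.tame_out_alt h)
  · exact Or.inl (Agent.K.tame_out_PSL h)
  · exact Or.inl (Agent.K.tame_out_PSp h)
  · exact Or.inl (Agent.K.tame_out_PSU h)
  · exact Or.inl (Agent.K.tame_out_POmegaOdd h)
  · exact Or.inl (Agent.K.tame_out_POmegaPlus h)
  · exact Or.inl (Agent.K.tame_out_POmegaMinus h)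
  · left
    by_cases hT : Lie.IsoTits K
    · exact tame_of_isPGroup (Agent.K.isPGroup_out_Tits hT)
    · refine Agent.K.tame_out_exc ?_
      unfold IsExceptionalLieType at h
      tauto
  · rcases Agent.K.card_out_spor24 h with (h | h) | h | h
    · exact Or.inl (tame_of_card (Or.inl h))
    · exact Or.inl (tame_of_card (Or.inr (Or.inl h)))
    · exact Or.inr (big_of_isoB hna h)
    · exact Or.inr (big_of_isoM hna h)

end Cfsg.Agent.QT
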