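import Cfsg.Agent.PLocal.FrakM
import Cfsg.Agent.PLocal.PIrred
import Cfsg.Agent.Grp.Zipper
import Cfsg.Agent.S2862

/-!
The asymmetric case of the `qrc`-lemma: an asymmetric elementary abelian subgroup `Y` centralized
by a weakly closed subgroup `P` and not contained in the `p`-core has a cubic `2F`-offender.
-/

set_option autoImplicit false
set_option linter.unusedSectionVars false

namespace Cfsg.Agent.QT.Qrc

open Subgroup Cfsg Cfsg.Agent.PLocal Cfsg.Agent.PLocal.Amb Cfsg.Agent.Grp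
open Cfsg.Agent.PLocal.CP (ncl IsCharP secCent MinOver)
open scoped commutatorElement Cfsg.Agent.PLocal.CP

variable {G : Type*} [Group G] [Finite G] {p : ℕ} [Fact p.Prime]

/-- the asymmetric set-up -/
structure Asy (p : ℕ) (P Y : Subgroup G) : Prop where
  wc : WC.IsWC p P
  ea : IsElementaryAbelian p Y
  le : Y ≤ P
  cent : P ≤ 𝐂[Y]
  nrm : 𝐍[P] ≤ 𝐍[Y]
  asym : ¬ IsSymmetricIn Y

theorem star {P Y H L : Subgroup G} (h : Asy p P Y) (hHc : IsCharP p H) (hPH : P ≤ H)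
    (hmin : ∀ K, P ≤ K → K < H → Y ≤ pCoreOf p K) (hLH : L ≤ H) (hYO : ¬ Y ≤ pCoreOf p L) {g : G}
    (hg : g ∈ L) (hL : Y ⊔ cj(g, Y) = L) {x : G} (hx : x ∈ L) (hc : cj(x, Y) ≤ 𝐂[Y]) :
    x ∈ 𝐍[Y] := by
  have hw := h.wc
  set O := pCoreOf p H with hO
  have hYP : Y ≤ P := h.le
  have hPC : P ≤ 𝐂[Y] := h.cent
  have hYL : Y ≤ L := le_sup_left.trans hL.le
  have hYC : Y ≤ 𝐂[Y] := hYP.trans hPC
  have hHO : H ≤ 𝐍[O] := le_normalizer_pCoreOf p H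
  have hOH : O ≤ H := pCoreOf_le p H
  have hOP : O ≤ 𝐍[P] := hw.pCoreOf_le_normalizer (hPH.trans le_normalizer)
  have hOY : O ≤ 𝐍[Y] := hOP.trans h.nrm
  have hcjO : ∀ l ∈ H, cj(l, O) = O := fun l hl => cj_of_mem_normalizer (hHO hl)
  set E := ⁅O, Y⁆ with hE
  have hEOY : E ≤ O ⊓ Y := WC.commutator_le_inf_of hOY ((hYL.trans hLH).trans hHO)
  have hEcj : ∀ l ∈ H, cj(l, E) = ⁅O, cj(l, Y)⁆ := fun l hl => by
    rw [hE, ← commutator_cj, hcjO l hl]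
  have hEO : ∀ l ∈ H, cj(l, E) ≤ O := fun l hl =>
    cj_le_of_mem_normalizer (hEOY.trans inf_le_left) (hHO hl)
  have hOE : O ≤ 𝐍[E] := normalizer_commutator_ge_left _ _
  have hOEg : O ≤ 𝐍[cj(g, E)] := by
    rw [hEcj g (hLH hg)]; exact normalizer_commutator_ge_left _ _
  set D := E ⊔ cj(g, E) with hD
  have hDO : D ≤ O := sup_le (hEOY.trans inf_le_left) (hEO g (hLH hg))
  have hLD0 : L ≤ 𝐍[D] := by
    rw [← hL]
    refine sup_le ?_ ?_
    · exact WC.le_normalizer_of_commutator_le_of_le (A := O) le_sup_left hDO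
    · exact WC.le_normalizer_of_commutator_le_of_le (A := O)
        ((hEcj g (hLH hg)).ge.trans le_sup_right) hDO
  have hOL : ⁅O, L⁆ ≤ D := by
    rw [← hL]
    exact CommMod.commutator_sup_le' (hYL.trans hLD0)
      ((le_sup_right.trans hL.le).trans hLD0) le_sup_left
      ((hEcj g (hLH hg)).ge.trans le_sup_right)
  have hCL : 𝐂[Y] ⊓ 𝐂[cj(g, Y)] = 𝐂[L] := by rw [← Amb.centralizer_sup, hL]
  have hEgC : cj(g, E) ≤ 𝐂[cj(g, Y)] := by
    rw [centralizer_cj]; exact cj_mono g ((hEOY.trans inf_le_right).trans hYC)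
  set B₁ := O ⊓ 𝐂[Y] with hB₁
  have hEB₁ : E ≤ B₁ := hEOY.trans (inf_le_inf_left _ hYC)
  have hdec : ∀ c ∈ B₁, ∃ e ∈ E, e * c ∈ 𝐂[L] := by
    intro c hc
    have a1 : ⁅c, g⁆ ∈ D := hOL (commutator_mem_commutator hc.1 hg)
    obtain ⟨e, he, e', he', hee⟩ := (mem_sup_of_le_normalizer_right
      ((hEOY.trans inf_le_left).trans hOEg)).1 a1
    refine ⟨e⁻¹, inv_mem he, ?_⟩
    rw [← hCL]
    refine ⟨(𝐂[Y]).mul_mem ((𝐂[Y]).inv_mem (hEB₁ he).2) hc.2, ?_⟩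
    have a2 : e⁻¹ * c = e' * (g * c * g⁻¹) := by
      have : e' = e⁻¹ * ⁅c, g⁆ := by rw [hee]; group
      rw [this, commutatorElement_def]; group
    rw [a2]
    refine (𝐂[cj(g, Y)]).mul_mem (hEgC he') ?_
    rw [centralizer_cj]
    exact conj_mem_cj g hc.2
  have hExB₁ : cj(x, E) ≤ B₁ :=
    le_inf (hEO x (hLH hx)) ((cj_mono x (hEOY.trans inf_le_right)).trans hc)
  have hxB₁ : x ∈ 𝐍[B₁] := by
    refine mem_normalizer_of_cj_le (cj_le_iff_forall.2 fun c hc => ?_)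
    obtain ⟨e, he, hec⟩ := hdec c hc
    have a1 : x * (e * c) = (e * c) * x := hec x hx
    have a2 : x * c * x⁻¹ = (x * e * x⁻¹)⁻¹ * (e * c) := by
      calc x * c * x⁻¹ = (x * e * x⁻¹)⁻¹ * (x * (e * c)) * x⁻¹ := by group
        _ = _ := by rw [a1]; group
    rw [a2]
    exact B₁.mul_mem (B₁.inv_mem (hExB₁ (conj_mem_cj x he))) (B₁.mul_mem (hEB₁ he) hc)
  set B := D ⊓ B₁ with hB
  have hEB : E ≤ B := le_inf le_sup_left hEB₁
  have hxB : x ∈ 𝐍[B] := by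
    have := le_normalizer_inf (L := zpowers x) (zpowers_le.2 (hLD0 hx)) (zpowers_le.2 hxB₁)
    exact this (mem_zpowers x)
  have hBY : B ≤ Y := by
    intro b hb
    obtain ⟨e, he, e', he', rfl⟩ := (mem_sup_of_le_normalizer_right
      ((hEOY.trans inf_le_left).trans hOEg)).1 hb.1
    refine Y.mul_mem (hEOY he).2 ?_
    have a1 : e' ∈ 𝐂[L] := by
      rw [← hCL]
      refine ⟨?_, hEgC he'⟩
      have := (𝐂[Y]).mul_mem ((𝐂[Y]).inv_mem (hEB₁ he).2) hb.2.2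
      simpa using this
    have a2 := cj_mono g (hEOY.trans inf_le_right) he'
    rw [mem_cj] at a2
    have a3 : g * e' = e' * g := a1 g hg
    have a4 : g⁻¹ * e' * g = e' := by rw [mul_assoc, ← a3]; group
    rwa [a4] at a2
  set K := P ⊔ zpowers x with hK
  have hPK : P ≤ K := le_sup_left
  have hKH : K ≤ H := sup_le hPH (zpowers_le.2 (hLH hx))
  have hPB : P ≤ 𝐂[B] := hPC.trans (centralizer_anti hBY)
  have hKB : K ≤ 𝐍[B] := sup_le (hPB.trans (centralizer_le_normalizer' _)) (zpowers_le.2 hxB)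
  have hKB₁ : K ≤ 𝐍[B₁] := sup_le (le_normalizer_inf (hPH.trans hHO)
    (le_normalizer_centralizer (hPC.trans (centralizer_le_normalizer' _)))) (zpowers_le.2 hxB₁)
  have hKlt : K < H := by
    refine lt_of_le_of_ne hKH fun h0 => hYO ?_
    have a1 : cj(g, E) ≤ 𝐂[L] := by
      rw [← hCL]
      exact le_inf ((cj_le_of_mem_normalizer hEB₁ (hKB₁ (h0.ge (hLH hg)))).trans inf_le_right) hEgC
    have a2 : E ≤ 𝐂[L] := by
      rw [cj_le_iff, ← centralizer_cj, cj_of_mem (L.inv_mem hg)] at a1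
      exact a1
    have a3 : 𝐎[p, L] ≤ 𝐂[O] := CP.pRes_le_centralizer_of_commutator_le
      ((isPGroup_pCoreOf p H).to_le hDO)
      ((pRes_le p L).trans (WC.le_centralizer_comm.1 (sup_le a2 a1)))
      (by rw [commutator_comm]; exact hOL)
    have a4 : IsPGroup p L := isPGroup_of_pRes_le (isPGroup_pCoreOf p H)
      ((le_inf ((pRes_le p L).trans hLH) a3).trans hHc)
    rw [pCoreOf_eq_self a4]
    exact hYL
  have hYK := hmin K hPK hKlt
  set U := ncl Y K with hU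
  have hKU : K ≤ 𝐍[U] := CP.le_normalizer_ncl Y K
  have hUK : U ≤ K := CP.ncl_le_of_le (hYP.trans hPK)
  have hUea : IsElementaryAbelian p U := isEA_mono
    (WC.isEA_ncl_of_asym h.ea h.asym hYK
      ((hw.pCoreOf_le_normalizer (hPK.trans le_normalizer)).trans h.nrm))
    (CP.ncl_mono le_rfl (le_normalizer_pCoreOf p K))
  have hUC : U ≤ 𝐂[Y] := (isEA_le_centralizer hUea).trans (centralizer_anti (CP.le_ncl Y K))
  set F := ncl P K with hF
  have hFK : F ≤ K := CP.ncl_le_of_le hPK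
  have hFB : F ≤ 𝐂[B] := CP.ncl_le hPB (le_normalizer_centralizer hKB)
  have hB₁U : B₁ ≤ 𝐂[U] := CP.le_centralizer_ncl inf_le_right hKB₁
  have hKO : K ≤ 𝐍[O] := hKH.trans hHO
  have c1 : ⁅O, U⁆ ≤ B := CP.commutator_ncl_le hKO hKB ((hYP.trans hPK).trans hKB) hEB
  have c2 : ⁅O, F⁆ ≤ B₁ := CP.commutator_ncl_le hKO hKB₁ (hPK.trans hKB₁)
    ((WC.commutator_le_inf_of hOP (hPK.trans hKO)).trans (inf_le_inf_left _ hPC))
  have c3 : ⁅⁅U, F⁆, O⁆ = ⊥ := by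
    refine commutator_commutator_eq_bot_of_rotate ?_ ?_
    · rw [commutator_eq_bot_iff_le_centralizer, commutator_comm]
      exact c2.trans hB₁U
    · rw [commutator_eq_bot_iff_le_centralizer]
      exact c1.trans (WC.le_centralizer_comm.1 hFB)
  have c4 : ⁅U, F⁆ ≤ B₁ := by
    have a1 : ⁅U, F⁆ ≤ U := WC.commutator_le_left_of (hFK.trans hKU)
    refine le_inf (le_trans (le_inf (a1.trans (hUK.trans hKH)) ?_) hHc) (a1.trans hUC)
    rwa [← commutator_eq_bot_iff_le_centralizer]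
  have c5 : 𝐎[p, K] ≤ secCent B₁ B := by
    have a1 : K ≤ secCent B₁ B ⊔ P := by
      refine sup_le le_sup_right (le_sup_left.trans' (zpowers_le.2 ?_))
      refine CP.mem_secCent.2 ⟨hxB, fun c hc => ?_⟩
      obtain ⟨e, he, hec⟩ := hdec c hc
      have b1 : x * (e * c) = (e * c) * x := hec x hx
      have b2 : ⁅x, c⁆ = (x * e * x⁻¹)⁻¹ * e := by
        rw [commutatorElement_def]
        calc x * c * x⁻¹ * c⁻¹ = (x * e * x⁻¹)⁻¹ * (x * (e * c)) * x⁻¹ * c⁻¹ := by group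
          _ = _ := by rw [b1]; group
      rw [b2]
      exact B.mul_mem (B.inv_mem (conj_mem_of_mem_normalizer hxB (hEB he))) (hEB he)
    exact (pRes_mono a1).trans (pRes_sup_le hw.pgrp
      (hPK.trans (CP.le_normalizer_secCent hKB₁ hKB)))
  have hOp := isPGroup_pCoreOf p H
  have c6 : 𝐎[p, F] ≤ 𝐂[B₁] := by
    have := CP.pRes_le_centralizer_of_commutator_le (D := 𝐎[p, F]) (U := B) (V := B₁)
      (hOp.to_le (inf_le_left.trans hDO)) (((pRes_le _ _).trans (pRes_le _ _)).trans hFB)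
      (CP.le_secCent_iff.1 ((pRes_mono hFK).trans c5)).2
    rwa [pRes_pRes] at this
  have c7 : 𝐎[p, F] ≤ 𝐂[U] := CP.pRes_le_centralizer_of_commutator_le (hOp.to_le inf_le_left) c6
    (by rw [commutator_comm]; exact c4)
  have c8 : F ≤ 𝐍[Y] := by
    have := hw.pRes_wcl_sup hPK
    rw [hw.wcl_eq_ncl hPK] at this
    rw [hF, ← this]
    exact sup_le ((c7.trans (centralizer_anti (CP.le_ncl Y K))).trans
      (centralizer_le_normalizer' _)) (hPC.trans (centralizer_le_normalizer' _))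
  obtain ⟨k, hk, n, hn, he⟩ := hw.frattini (CP.le_ncl P K)
    (CP.le_normalizer_ncl P K (le_sup_right (a := P) (mem_zpowers x)))
  rw [he]
  exact (𝐍[Y]).mul_mem (c8 hk) (h.nrm hn)


theorem Asy.exists_minOver {P Y : Subgroup G} (h : Asy p P Y) (hG : IsCharP p (⊤ : Subgroup G))
    (hn : ¬ Y ≤ pCoreOf p (⊤ : Subgroup G)) : ∃ L, MinOver Y (L ⊓ 𝐍[Y]) L := by
  have hw := h.wc
  have hYp := isEA_isPGroup h.ea
  obtain ⟨H, ⟨hPH, hYH⟩, hH⟩ := (wellFounded_lt (α := Subgroup G)).has_min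
    {K | P ≤ K ∧ ¬ Y ≤ pCoreOf p K} ⟨⊤, le_top, hn⟩
  have hminH : ∀ K, P ≤ K → K < H → Y ≤ pCoreOf p K := fun K h1 h2 => by
    by_contra h0
    exact hH K ⟨h1, h0⟩ h2
  have e : ncl P H = H := by
    by_contra h0
    exact hYH ((hminH _ (CP.le_ncl P H) (lt_of_le_of_ne (CP.ncl_le_of_le hPH) h0)).trans
      (pCoreOf_mono_of_normal (CP.ncl_le_of_le hPH) (CP.le_normalizer_ncl P H)))
  have hHc : IsCharP p H := hG.of_le_normalizer le_top (by
    rw [← e]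
    refine WC.le_normalizer_iSup fun g => ?_
    rw [normalizer_cj, ← cj_of_mem_normalizer (le_normalizer_pCoreOf p ⊤ (mem_top (g : G)))]
    exact cj_mono _ (hw.pCoreOf_le_normalizer (le_top.trans le_normalizer)))
  obtain ⟨L, ⟨hYL, hLH, hYO⟩, hL⟩ := (wellFounded_lt (α := Subgroup G)).has_min
    {K | Y ≤ K ∧ K ≤ H ∧ ¬ Y ≤ pCoreOf p K} ⟨H, h.le.trans hPH, le_rfl, hYH⟩
  have hmin' : ∀ X, Y ≤ X → X < L → Y ≤ pCoreOf p X := fun X h1 h2 => by
    by_contra h0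
    exact hL X ⟨h1, h2.le.trans hLH, h0⟩ h2
  obtain ⟨M₀, hM₀, hM₀max⟩ := zipper hYL (fun h0 => hYO (CP.le_pCoreOf_of_snIn h0 hYp))
    fun W h1 h2 => (SnIn.of_isPGroup (isPGroup_pCoreOf p W) (hmin' W h1 h2)).trans
      (SnIn.of_le_normalizer (pCoreOf_le p W) (le_normalizer_pCoreOf p W))
  have hYlt : Y < L := lt_of_le_of_ne hYL fun h0 => hYO (by
    rw [← h0, pCoreOf_eq_self hYp])
  have hMO : MinOver Y M₀ L := by
    refine ⟨hM₀max Y le_rfl hYlt, hM₀, ?_, hM₀max⟩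
    by_contra h0
    exact hYO ((hmin' _ (CP.le_ncl Y L) (lt_of_le_of_ne (CP.ncl_le_of_le hYL) h0)).trans
      (pCoreOf_mono_of_normal (CP.ncl_le_of_le hYL) (CP.le_normalizer_ncl Y L)))
  obtain ⟨g, hg, hgM⟩ := SetLike.exists_of_lt hM₀
  have hLg := hMO.sup_cj hg hgM
  have hM₀N : M₀ ≤ 𝐍[Y] :=
    S2862.le_normalizer_of_forall (isPGroup_pCoreOf p M₀) (hmin' M₀ hMO.le hM₀) (pCoreOf_le p M₀)
      (le_normalizer_pCoreOf p M₀) fun x hx h1 h2 =>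
        star h hHc hPH hminH hLH hYO hg hLg (hM₀.le hx) (WC.le_centralizer_of_asym h.asym h1 h2)
  have hM₀eq : M₀ = L ⊓ 𝐍[Y] :=
    le_antisymm (le_inf hM₀.le hM₀N) (hMO.inf_normalizer_le le_rfl hMO.le)
  exact ⟨L, hM₀eq ▸ hMO⟩

theorem relIndex_le_of_map {K Y Z A : Subgroup G} (f : G → G) (hf : ∀ y ∈ Y, f y ∈ A)
    (h : ∀ a ∈ Y, ∀ b ∈ Y, (f a)⁻¹ * f b ∈ Z → a⁻¹ * b ∈ K) : K.relIndex Y ≤ Z.relIndex A := by
  let g : Y ⧸ K.subgroupOf Y → A ⧸ Z.subgroupOf A :=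
    fun q => QuotientGroup.mk ⟨f (q.out : G), hf _ q.out.2⟩
  refine Nat.card_le_card_of_injective g fun q₁ q₂ e => ?_
  have h1 := QuotientGroup.eq.1 e
  rw [mem_subgroupOf] at h1
  rw [← q₁.out_eq, ← q₂.out_eq]
  exact QuotientGroup.eq.2 (mem_subgroupOf.2 (h _ q₁.out.2 _ q₂.out.2 h1))

theorem comm_le_of_minOver {Y W L : Subgroup G} (hY : IsElementaryAbelian 2 Y)
    (hW : IsElementaryAbelian 2 W) (h : MinOver Y (L ⊓ 𝐍[Y]) L) (hWL : W ≤ L) :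
    ⁅Y ⊓ 𝐍[W], W⁆ ≤ W ⊓ 𝐍[Y] := by
  refine commutator_le.2 fun y hy u hu => ?_
  have hc : ⁅y, u⁆ ∈ W := W.mul_mem (conj_mem_of_mem_normalizer hy.2 hu) (W.inv_mem hu)
  refine ⟨hc, ?_⟩
  by_contra k
  have e := h.sup_cj (hWL hc) fun k1 => k k1.2
  have y2 : y * y = 1 := by rw [← pow_two]; exact hY.2 y hy.1
  have c2 : ⁅y, u⁆ * ⁅y, u⁆ = 1 := by rw [← pow_two]; exact hW.2 _ hc
  have yi : y⁻¹ = y := inv_eq_of_mul_eq_one_right y2
  have k1 : ⁅y, u⁆ * y * ⁅y, u⁆⁻¹ = y := by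
    rw [inv_eq_of_mul_eq_one_right c2, commutatorElement_def, yi]
    calc y * u * y * u⁻¹ * y * (y * u * y * u⁻¹) = y * u * y * u⁻¹ * (y * y) * u * y * u⁻¹ := by
          group
      _ = y * u * (y * y) * u⁻¹ := by
          conv_lhs => rw [y2]
          group
      _ = y := by rw [y2]; group
  have k2 : L ≤ 𝐂[zpowers y] := by
    rw [← e]
    refine sup_le ((isEA_le_centralizer hY).trans (centralizer_anti (zpowers_le.2 hy.1))) ?_
    refine le_trans ?_ (centralizer_anti (zpowers_le.2 (k1 ▸ conj_mem_cj ⁅y, u⁆ hy.1)))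
    rw [centralizer_cj]
    exact cj_mono _ (isEA_le_centralizer hY)
  refine k ?_
  rw [commutatorElement_eq_one_iff_mul_comm.2 (k2 (hWL hu) y (mem_zpowers y))]
  exact one_mem _

/-- the elements of `L` commuting with `w` modulo `Z` -/
def comm1 (L Z : Subgroup G) (h : L ≤ 𝐍[Z]) (w : G) : Subgroup G where
  carrier := {l | l ∈ L ∧ ⁅l, w⁆ ∈ Z}
  one_mem' := ⟨one_mem _, by simp⟩
  mul_mem' := fun {a b} ha hb => ⟨mul_mem ha.1 hb.1, by
    rw [show ⁅a * b, w⁆ = a * ⁅b, w⁆ * a⁻¹ * ⁅a, w⁆ by simp only [commutatorElement_def]; group]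
    exact mul_mem (conj_mem_of_mem_normalizer (h ha.1) hb.2) ha.2⟩
  inv_mem' := fun {a} ha => ⟨inv_mem ha.1, by
    rw [show ⁅a⁻¹, w⁆ = a⁻¹ * ⁅a, w⁆⁻¹ * a by simp only [commutatorElement_def]; group]
    exact inv_conj_mem_of_mem_normalizer (h ha.1) (inv_mem ha.2)⟩

/-- `B` is a cubic `2F`-offender on `Y` -/
structure Cub (Y B : Subgroup G) : Prop where
  ea : IsElementaryAbelian 2 B
  ne : ¬ B ≤ 𝐂[Y]
  cub : ⁅⁅⁅Y, B⁆, B⁆, B⁆ = ⊥
  idx : (𝐂[B]).relIndex Y ≤ (𝐂[Y]).relIndex B ^ 2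

theorem relIndex_cent_map {G' : Type*} [Group G'] {f : G →* G'} (hf : Function.Injective f)
    (X A : Subgroup G) : (𝐂[X.map f]).relIndex (A.map f) = (𝐂[X]).relIndex A := by
  rw [← inf_relIndex_right, ← inf_relIndex_right 𝐂[X], ← relIndex_map_map_of_injective _ _ hf]
  congr 1
  ext y
  constructor
  · rintro ⟨h1, a, ha, rfl⟩
    exact ⟨a, ⟨fun x hx => hf (by rw [map_mul, map_mul]; exact h1 _ ⟨x, hx, rfl⟩), ha⟩, rfl⟩
  · rintro ⟨a, ha, rfl⟩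
    refine ⟨?_, a, ha.2, rfl⟩
    rintro _ ⟨x, hx, rfl⟩
    rw [← map_mul, ← map_mul, ha.1 x hx]

theorem Cub.map {G' : Type*} [Group G'] {f : G →* G'} (hf : Function.Injective f) {Y B : Subgroup G}
    (h : Cub Y B) : Cub (Y.map f) (B.map f) := by
  refine ⟨isEA_map h.ea f, fun k => h.ne ?_, ?_, ?_⟩
  · rwa [← relIndex_eq_one, relIndex_cent_map hf, relIndex_eq_one] at k
  · rw [← map_commutator, ← map_commutator, ← map_commutator, h.cub, Subgroup.map_bot]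
  · rw [relIndex_cent_map hf, relIndex_cent_map hf]; exact h.idx

theorem Cub.cj {Y B : Subgroup G} (h : Cub Y B) (g : G) : Cub cj(g, Y) cj(g, B) :=
  h.map (f := (MulAut.conj g).toMonoidHom) (MulAut.conj g).injective

theorem cubic_of_minOver {Y L Q : Subgroup G} (hY : IsElementaryAbelian 2 Y)
    (h : MinOver Y (L ⊓ 𝐍[Y]) L) (hQ : IsPGroup 2 Q) (hLQ : L ≤ 𝐍[Q]) (hQY : Q ≤ 𝐍[Y])
    (hC : 𝐂[Q] ≤ Q) : ∃ B : Subgroup G, B ≤ 𝐍[Y] ∧ Cub Y B := by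
  have : Fact (Nat.Prime 2) := ⟨Nat.prime_two⟩
  obtain ⟨g₀, hg₀, hg₀'⟩ := SetLike.exists_of_lt h.lt
  obtain ⟨g, hg1, hg'⟩ := SetLike.not_le_iff_exists.1 fun k => hg₀' (h.mem_of_cj_le hg₀ k)
  have hg : g ∈ L := cj_le_of_mem h.le_top hg₀ hg1
  have g2 : g * g = 1 := by rw [← pow_two]; exact (isEA_map hY _).2 g hg1
  have hL := h.sup_cj hg hg'
  have h' := h.cj_of_mem hg
  rw [cj_inf, cj_of_mem hg, ← normalizer_cj] at h'
  set W := cj(g, Y) with hWe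
  have hW : IsElementaryAbelian 2 W := isEA_map hY _
  have eW : cj(g, W) = Y := by rw [hWe, ← cj_mul, g2, cj_one]
  have hYL := h.le_top
  have hWL := h'.le_top
  have hZ : Y ⊓ W ≤ 𝐂[L] := by
    rw [← hL, Amb.centralizer_sup]
    exact inf_le_inf (isEA_le_centralizer hY) (isEA_le_centralizer hW)
  have hLZ : L ≤ 𝐍[Y ⊓ W] := (WC.le_centralizer_comm.1 hZ).trans (centralizer_le_normalizer' _)
  have c1 := comm_le_of_minOver hY hW h hWL
  have c2 := comm_le_of_minOver hW hY h' hYL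
  have eA : cj(g, Y ⊓ 𝐍[W]) = W ⊓ 𝐍[Y] := by rw [cj_inf, ← normalizer_cj, eW]
  have eA' : cj(g, W ⊓ 𝐍[Y]) = Y ⊓ 𝐍[W] := by rw [cj_inf, ← normalizer_cj, eW]
  have eZ : cj(g, Y ⊓ W) = Y ⊓ W := cj_of_mem_normalizer (hLZ hg)
  have hCZ : 𝐂[Y] ⊓ (W ⊓ 𝐍[Y]) = Y ⊓ W ⊓ (W ⊓ 𝐍[Y]) := by
    refine le_antisymm (fun w hw => ⟨⟨?_, hw.2.1⟩, hw.2⟩) (inf_le_inf_right _
      (inf_le_left.trans (isEA_le_centralizer hY)))
    have k : w ∈ 𝐂[L] := by
      rw [← hL, Amb.centralizer_sup]; exact ⟨hw.1, isEA_le_centralizer hW hw.2.1⟩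
    have k2 := conj_mem_cj g hw.2.1
    rwa [eW, k g hg, mul_inv_cancel_right] at k2
  have hne : ¬ W ⊓ 𝐍[Y] ≤ Y ⊓ W := fun k => by
    have k' : Y ⊓ 𝐍[W] ≤ Y ⊓ W := by rw [← eA', ← eZ]; exact cj_mono g k
    have hQW : Q ≤ 𝐍[W] := by
      rw [hWe, normalizer_cj, ← cj_of_mem_normalizer (hLQ hg)]; exact cj_mono g hQY
    have a1 : ⁅Q, L⁆ ≤ Y ⊓ W := by
      rw [← hL]
      refine CommMod.commutator_sup_le' (hYL.trans hLZ) (hWL.trans hLZ) (le_trans ?_ k')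
        (le_trans ?_ k)
      · exact (WC.commutator_le_inf_of hQY (hYL.trans hLQ)).trans
          (le_inf inf_le_right (inf_le_left.trans hQW))
      · exact (WC.commutator_le_inf_of hQW (hWL.trans hLQ)).trans
          (le_inf inf_le_right (inf_le_left.trans hQY))
    have a2 : 𝐎[2, L] ≤ 𝐂[Q] := CP.pRes_le_centralizer_of_commutator_le
      ((isEA_isPGroup hY).to_le inf_le_left) ((pRes_le 2 L).trans (WC.le_centralizer_comm.1 hZ))
      (by rw [commutator_comm]; exact a1)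
    have a3 : IsPGroup 2 L := isPGroup_of_pRes_le hQ (a2.trans hC)
    exact h.not_le_pCoreOf (isEA_isPGroup hY) (by rw [pCoreOf_eq_self a3]; exact hYL)
  have ea : (𝐂[Y]).relIndex (W ⊓ 𝐍[Y]) = (Y ⊓ W).relIndex (W ⊓ 𝐍[Y]) := by
    rw [← inf_relIndex_right 𝐂[Y], hCZ, inf_relIndex_right]
  have eb : (Y ⊓ W).relIndex (Y ⊓ 𝐍[W]) = (Y ⊓ W).relIndex (W ⊓ 𝐍[Y]) := by
    rw [← eA]
    conv_rhs => rw [← eZ]
    exact (relIndex_map_map_of_injective _ _ (MulAut.conj g).injective).symm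
  refine ⟨W ⊓ 𝐍[Y], inf_le_right, isEA_mono hW inf_le_left, fun k => hne ?_, ?_, ?_⟩
  · exact ((le_inf k le_rfl).trans hCZ.le).trans inf_le_left
  · rw [commutator_eq_bot_iff_le_centralizer]
    refine le_trans ?_ (hZ.trans (centralizer_anti (inf_le_left.trans hWL)))
    rw [commutator_comm] at c2
    refine (commutator_mono c2 le_rfl).trans (le_inf ?_ ?_)
    · exact (commutator_mono inf_le_left le_rfl).trans (WC.commutator_le_left_of inf_le_right)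
    · exact (commutator_mono le_rfl inf_le_left).trans (c1.trans inf_le_left)
  obtain ⟨w, hw, hw'⟩ := SetLike.not_le_iff_exists.1 hne
  have k1 : (Y ⊓ 𝐍[W]).relIndex Y ≤ (Y ⊓ W).relIndex (Y ⊓ 𝐍[W]) := by
    have m : ∀ y ∈ Y, ⁅y, w⁆ ∈ Y ⊓ 𝐍[W] := fun y hy =>
      c2 (commutator_comm Y _ ▸ commutator_mem_commutator hy hw)
    refine relIndex_le_of_map (fun y => ⁅y, w⁆) m fun a ha b hb e => ?_
    have hy : a⁻¹ * b ∈ Y := Y.mul_mem (Y.inv_mem ha) hb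
    refine ⟨hy, ?_⟩
    by_contra k
    have e1 : ⁅a⁻¹ * b, w⁆ ∈ Y ⊓ W := by
      have : ⁅a⁻¹ * b, w⁆ = a⁻¹ * (⁅b, w⁆ * ⁅a, w⁆⁻¹) * a := by
        simp only [commutatorElement_def]; group
      rw [this, isEA_comm hY (m b hb).1 (Y.inv_mem (m a ha).1)]
      exact inv_conj_mem_of_mem_normalizer (hLZ (hYL ha)) e
    have e2 : comm1 L (Y ⊓ W) hLZ w = L := by
      refine h'.eq_of_not_le (fun u hu => ⟨hWL hu, ?_⟩) (fun _ hu => hu.1)
        fun k1 => k (k1 ⟨hYL hy, e1⟩).2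
      rw [commutatorElement_eq_one_iff_mul_comm.2 (isEA_comm hW hu hw.1)]
      exact one_mem _
    have e3 := (e2.ge hg).2
    refine hw' ⟨?_, hw.1⟩
    have e4 : g * w * g⁻¹ ∈ Y := eW ▸ conj_mem_cj g hw.1
    have : w = (⁅g, w⁆)⁻¹ * (g * w * g⁻¹) := by rw [commutatorElement_def]; group
    rw [this]
    exact Y.mul_mem (Y.inv_mem e3.1) e4
  rw [ea, ← eb, pow_two]
  calc (𝐂[W ⊓ 𝐍[Y]]).relIndex Y ≤ (Y ⊓ W).relIndex Y := relIndex_le_of_le_left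
        (hZ.trans (centralizer_anti (inf_le_left.trans hWL))) Subgroup.index_ne_zero_of_finite
    _ = (Y ⊓ W).relIndex (Y ⊓ 𝐍[W]) * (Y ⊓ 𝐍[W]).relIndex Y :=
        (relIndex_mul_relIndex _ _ _ (inf_le_inf_left _ le_normalizer) inf_le_left).symm
    _ ≤ _ := Nat.mul_le_mul_left _ k1

theorem cub_of_sym {Y W : Subgroup G} (hW : IsElementaryAbelian 2 W)
    (h0 : ¬ W ≤ 𝐂[Y]) (h1 : ⁅Y, W⁆ ≤ W) (h2 : (𝐂[W]).relIndex Y ≤ (𝐂[Y]).relIndex W) : Cub Y W := by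
  refine ⟨hW, h0, ?_, h2.trans (Nat.le_self_pow two_ne_zero _)⟩
  rw [commutator_eq_bot_iff_le_centralizer.2 (h1.trans (isEA_le_centralizer hW)),
    commutator_bot_left]

/-- the case `Y ≰ O₂(G)` -/
theorem exists_cub {T P Y : Subgroup G} (hG : IsCharP 2 (⊤ : Subgroup G)) (hT : IsSyl 2 T ⊤)
    (hw : WC.IsWC 2 P) (hPT : P ≤ T) (hY : IsElementaryAbelian 2 Y) (h1 : Y ≤ P) (h2 : P ≤ 𝐂[Y])
    (h3 : 𝐍[P] ≤ 𝐍[Y]) (hn : ¬ Y ≤ pCoreOf 2 (⊤ : Subgroup G)) : ∃ B ≤ T, Cub Y B := by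
  have : Fact (Nat.Prime 2) := ⟨Nat.prime_two⟩
  have hTY : T ≤ 𝐍[Y] := (hw.le_norm hT.pgrp hPT).trans h3
  suffices ∃ B ≤ 𝐍[Y], Cub Y B by
    obtain ⟨B, b1, b2⟩ := this
    obtain ⟨n, hn, k⟩ := (hT.mono hTY le_top).exists_cj_le (isEA_isPGroup b2.ea) b1
    have := b2.cj n
    rw [cj_of_mem_normalizer hn] at this
    exact ⟨_, k, this⟩
  by_cases ha : IsSymmetricIn Y
  · obtain ⟨g, g1, g2⟩ := ha
    change ⁅Y, cj(g, Y)⁆ ≠ ⊥ at g1
    change ⁅Y, cj(g, Y)⁆ ≤ Y ⊓ cj(g, Y) at g2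
    have hW : ∀ x : G, IsElementaryAbelian 2 cj(x, Y) := fun x => isEA_map hY _
    rw [Ne, commutator_eq_bot_iff_le_centralizer] at g1
    rcases le_total ((𝐂[cj(g, Y)]).relIndex Y) ((𝐂[Y]).relIndex cj(g, Y)) with k | k
    · exact ⟨_, le_normalizer_iff_commutator_le_left.2 (g2.trans inf_le_left), cub_of_sym (hW g)
        (fun k => g1 (WC.le_centralizer_comm.1 k)) (g2.trans inf_le_right) k⟩
    · have c := (cub_of_sym hY g1 (by
        rw [commutator_comm]; exact g2.trans inf_le_left) k).cj g⁻¹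
      rw [cj_inv_cj] at c
      refine ⟨_, ?_, c⟩
      rw [cj_le_iff, inv_inv, ← normalizer_cj]
      exact le_normalizer_iff_commutator_le_right.2 (g2.trans inf_le_right)
  obtain ⟨L, hL⟩ := Asy.exists_minOver ⟨hw, hY, h1, h2, h3, ha⟩ hG hn
  exact cubic_of_minOver hY hL (isPGroup_pCoreOf 2 ⊤) (le_top.trans (le_normalizer_pCoreOf 2 ⊤))
    (hT.pCoreOf_le.trans hTY) ((le_inf le_top le_rfl).trans hG)

end Cfsg.Agent.QT.Qrc
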