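import Cfsg.Agent.QT.QrcA
import Cfsg.Agent.PLocal.BkR2
import Cfsg.Agent.Grp.Cores

/-!
Counting tools for the `qrc`-lemma: the property `q > 2`, sections of minimal parabolic groups
have no over-offenders, strong dual offenders, pushing up the Baumann subgroup.
-/

set_option autoImplicit false
set_option linter.unusedSectionVars false

namespace Cfsg.Agent.QT.Qrc

open Subgroup Cfsg Cfsg.Agent.PLocal Cfsg.Agent.PLocal.Amb Cfsg.Agent.PLocal.TV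
open Cfsg.Agent.PLocal.Bk
open Cfsg.Agent.PLocal.CP (ncl IsCharP MinOver)
open scoped commutatorElement Cfsg.Agent.PLocal.CP

variable {G : Type*} [Group G] [Finite G] {p : ℕ} [Fact p.Prime]

/-- no quadratic `2F`-offender inside `T` -/
def P2 (U T : Subgroup G) : Prop := ∀ B ≤ T, ⁅⁅U, B⁆, B⁆ = ⊥ → ¬ B ≤ 𝐂[U] →
  (𝐂[U]).relIndex B ^ 2 < (𝐂[B]).relIndex U

theorem P2.mono {U T T' : Subgroup G} (h : P2 U T) (hT : T' ≤ T) : P2 U T' := fun B hB =>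
  h B (hB.trans hT)

theorem relIndex_cent_cj (g : G) (X A : Subgroup G) :
    (𝐂[cj(g, X)]).relIndex cj(g, A) = (𝐂[X]).relIndex A :=
  relIndex_cent_map (f := (MulAut.conj g).toMonoidHom) (MulAut.conj g).injective X A

theorem P2.cj {U T : Subgroup G} (h : P2 U T) {g : G} (hg : g ∈ 𝐍[T]) : P2 cj(g, U) T := by
  intro B hB hE hn
  have := h cj(g⁻¹, B) (cj_le_of_mem_normalizer hB (inv_mem hg)) (by
    rw [← cj_eq_bot (g := g), ← commutator_cj, ← commutator_cj, cj_cj_inv, hE]) (by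
    rwa [centralizer_cj, le_cj_iff] at hn)
  rwa [← relIndex_cent_cj g, ← relIndex_cent_cj g _ U, cj_cj_inv] at this

theorem P2.le {U T B : Subgroup G} (h : P2 U T) (hB : B ≤ T) (hE : ⁅⁅U, B⁆, B⁆ = ⊥) :
    (𝐂[U]).relIndex B ^ 2 ≤ (𝐂[B]).relIndex U := by
  by_cases hn : B ≤ 𝐂[U]
  · rw [relIndex_eq_one.2 hn, one_pow]
    exact relIndex_pos _ _
  · exact (h B hB hE hn).le

theorem quad_mono {U U' B B' : Subgroup G} (h : ⁅⁅U, B⁆, B⁆ = ⊥) (h1 : U' ≤ U) (h2 : B' ≤ B) :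
    ⁅⁅U', B'⁆, B'⁆ = ⊥ :=
  le_bot_iff.1 ((commutator_mono (commutator_mono h1 h2) h2).trans h.le)

theorem P2.sup {U₁ U₂ T : Subgroup G} (h₁ : P2 U₁ T) (h₂ : P2 U₂ T) : P2 (U₁ ⊔ U₂) T := by
  intro B hB hE hn
  have hB' : 𝐂[U₁] ⊓ B ≤ T := inf_le_right.trans hB
  have hE₁ := quad_mono hE le_sup_left le_rfl
  have hE₂ := quad_mono hE le_sup_right (inf_le_right : 𝐂[U₁] ⊓ B ≤ B)
  have h1 : (𝐂[B]).relIndex U₁ * (𝐂[𝐂[U₁] ⊓ B]).relIndex U₂ ≤ (𝐂[B]).relIndex (U₁ ⊔ U₂) := by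
    rw [← inf_eq_left.2 (Amb.centralizer_anti (inf_le_right : 𝐂[U₁] ⊓ B ≤ B)),
      ← relIndex_inf_mul_relIndex _ _ (U₁ ⊔ U₂),
      inf_eq_left.2 (Amb.centralizer_anti (inf_le_right : 𝐂[U₁] ⊓ B ≤ B))]
    exact Nat.mul_le_mul (relIndex_le_of_le_right (le_inf (le_centralizer_iff.1 inf_le_left)
      le_sup_left) (relIndex_pos _ _).ne') (relIndex_le_of_le_right le_sup_right
        (relIndex_pos _ _).ne')
  refine lt_of_lt_of_le ?_ h1
  rw [Amb.centralizer_sup, inf_comm, ← relIndex_inf_mul_relIndex, mul_pow, mul_comm]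
  by_cases h3 : B ≤ 𝐂[U₁]
  · refine Nat.mul_lt_mul_of_le_of_lt (h₁.le hB hE₁) (h₂ _ hB' hE₂ fun h4 => hn ?_)
      (relIndex_pos _ _)
    rw [Amb.centralizer_sup]
    exact le_inf h3 ((le_inf h3 le_rfl).trans h4)
  · exact Nat.mul_lt_mul_of_lt_of_le (h₁ B hB hE₁ h3) (h₂.le hB' hE₂) (relIndex_pos _ _)

theorem P2.iSup {ι : Type*} [Finite ι] {U : ι → Subgroup G} {T : Subgroup G}
    (h : ∀ i, P2 (U i) T) : P2 (⨆ i, U i) T := by
  have := Fintype.ofFinite ι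
  rw [← Finset.sup_univ_eq_iSup]
  refine Finset.sup_induction (p := fun U => P2 U T) (fun B _ _ hn => absurd ?_ hn)
    (fun _ h₁ _ h₂ => h₁.sup h₂) fun i _ => h i
  exact le_centralizer_iff.1 bot_le

theorem P2.not_off {U T B : Subgroup G} (h : P2 U T) (hB : B ≤ T) (hE : ⁅⁅U, B⁆, B⁆ = ⊥)
    (hi : (𝐂[B]).relIndex U ≤ (𝐂[U]).relIndex B) : B ≤ 𝐂[U] := by
  by_contra hn
  exact absurd ((h B hB hE hn).trans_le hi) (not_lt.2 (Nat.le_self_pow two_ne_zero _))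

theorem le_cent_of_p2 {V W Q : Subgroup G} (hV : V ≤ 𝐂[V]) (hW : W ≤ 𝐂[W]) (hVQ : V ≤ Q)
    (hWQ : W ≤ Q) (nV : Q ≤ 𝐍[V]) (nW : Q ≤ 𝐍[W]) (h₁ : P2 V Q) (h₂ : P2 W Q) : V ≤ 𝐂[W] := by
  have c := WC.commutator_le_inf_of (hVQ.trans nW) (hWQ.trans nV)
  rcases le_total ((𝐂[V]).relIndex W) ((𝐂[W]).relIndex V) with k | k
  · refine h₂.not_off hVQ (commutator_eq_bot_iff_le_centralizer.2 ?_) k
    rw [commutator_comm]; exact c.trans (inf_le_left.trans hV)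
  · exact cent_symm (h₁.not_off hWQ (commutator_eq_bot_iff_le_centralizer.2
      (c.trans (inf_le_right.trans hW))) k)

/-- Timmesfeld's replacement -/
theorem exists_quad {T U A : Subgroup G} (hU : IsElementaryAbelian p U) (hUT : U ≤ T)
    (hn : T ≤ 𝐍[U]) (hA : A ∈ maxEA p T) (h : ¬ A ≤ 𝐂[U]) :
    ∃ B ≤ A, ⁅⁅U, B⁆, B⁆ = ⊥ ∧ ¬ B ≤ 𝐂[U] ∧ (𝐂[B]).relIndex U ≤ (𝐂[U]).relIndex B := by
  obtain ⟨h1, -, -, h4⟩ := timmesfeld hU (hA.1.trans hn) (isBestOffenderOn_of_mem_maxEA hU hUT hA)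
    (le_refl U)
  set B := A ⊓ 𝐂[(⁅U, A⁆ : Subgroup G)] with hB
  refine ⟨B, inf_le_left, commutator_eq_bot_iff_le_centralizer.2
    ((commutator_mono le_rfl inf_le_left).trans (cent_symm inf_le_right)), fun k => h4 (fun e => h
      (cent_symm (commutator_eq_bot_iff_le_centralizer.1 e)))
      (commutator_eq_bot_iff_le_centralizer.2 (cent_symm k)), ?_⟩
  have k := h1.1 (B ⊓ 𝐂[U]) inf_le_left
  rw [inf_eq_left.2 (cent_symm (inf_le_right : B ⊓ 𝐂[U] ≤ 𝐂[U])), ← BM.relIndex_mul_card 𝐂[B] U,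
    ← BM.relIndex_mul_card 𝐂[U] B] at k
  have p1 : 0 < Nat.card ↥(B ⊓ 𝐂[U]) * Nat.card ↥(U ⊓ 𝐂[B]) :=
    Nat.mul_pos Nat.card_pos Nat.card_pos
  refine Nat.le_of_mul_le_mul_left ?_ p1
  linarith

theorem P2.thompson_le {T V : Subgroup G} (h : P2 V T) (hV : IsElementaryAbelian p V) (hVT : V ≤ T)
    (hn : T ≤ 𝐍[V]) : 𝐉[p, T] ≤ 𝐂[V] := thompsonSubgroupOf_le_iff.2 fun A hA => by
  by_contra k
  obtain ⟨B, b1, b2, b3, b4⟩ := exists_quad hV hVT hn hA k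
  exact b3 (h.not_off (b1.trans hA.1) b2 b4)

/-! ### sections -/

theorem star_sec_top {T M X Y A : Subgroup G} [X.Normal] [Y.Normal] (hT : IsSyl p T ⊤)
    (hM : MinOver T M ⊤) (hX : IsElementaryAbelian p X) (hYX : Y ≤ X)
    (hO : ⁅X, pCore p G⁆ ≤ Y) (hK : ¬ ⁅X, 𝐎[p, (⊤ : Subgroup G)]⁆ ≤ Y)
    (hA : IsElementaryAbelian p A) :
    (pCore p G).relIndex A ≤ (CommMod.centMod A Y).relIndex X := by
  set f := QuotientGroup.mk' Y with hf
  have hfs : Function.Surjective f := QuotientGroup.mk'_surjective _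
  have hk : f.ker = Y := QuotientGroup.ker_mk' _
  have hYp : IsPGroup p Y := (isEA_isPGroup hX).to_le hYX
  have hYT : Y ≤ T := hT.le_of_le_normalizer hYp le_top le_normalizer_of_normal
  have hT' := hT.map f
  have hM' := hM.map f (inf_le_right.trans (hk.le.trans (hYT.trans hM.le)))
  rw [Subgroup.map_top_of_surjective f hfs] at hT' hM'
  have : (X.map f).Normal := Normal.map inferInstance f hfs
  have key : ∀ B C : Subgroup G, B.map f ≤ 𝐂[C.map f] ↔ ⁅B, C⁆ ≤ Y := fun B C => by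
    rw [← commutator_eq_bot_iff_le_centralizer, ← map_commutator, Subgroup.map_eq_bot_iff, hk]
  have k := SA.star_top hT' hM' (isEA_map hX f) (by
      rw [← map_comap_eq_self_of_surjective hfs (pCore p _), key, commutator_comm]
      exact (commutator_mono le_rfl (Grp.comap_pCore_le_of_ker_isPGroup f (by rwa [hk]))).trans hO)
    ((hM'.pRes_le_or hT'.pgrp le_top le_normalizer_of_normal).resolve_left fun e => hK (by
      rwa [← Subgroup.map_top_of_surjective f hfs, ← map_pRes, key, commutator_comm] at e))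
    (isEA_map hA f)
  rw [← relIndex_comap, ← relIndex_comap] at k
  refine le_trans ?_ (k.trans ?_)
  · rw [← inf_relIndex_right ((𝐂[X.map f]).comap f)]
    refine BM.relIndex_anti_left _ ?_
    rw [← pCoreOf_top]
    refine SA.le_core_of (hM.pIrr hT.pgrp) ((isEA_isPGroup hA).to_le inf_le_right) le_top
      le_normalizer_of_normal le_normalizer_of_normal ?_ hK
    rw [commutator_comm, ← key]
    exact map_le_iff_le_comap.2 inf_le_left
  · refine BM.relIndex_anti_left _ (map_le_iff_le_comap.1 ((key _ _).2 ?_))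
    exact CommMod.commutator_centMod_le _ _

theorem star_sec {T M P X Y A : Subgroup G} (hT : IsSyl p T P) (hM : MinOver T M P)
    (hX : IsElementaryAbelian p X) (hYX : Y ≤ X) (hXP : X ≤ P) (nX : P ≤ 𝐍[X]) (nY : P ≤ 𝐍[Y])
    (hO : ⁅X, pCoreOf p P⁆ ≤ Y) (hK : ¬ ⁅X, 𝐎[p, P]⁆ ≤ Y) (hA : IsElementaryAbelian p A)
    (hAP : A ≤ P) : (pCoreOf p P).relIndex A ≤ (CommMod.centMod A Y).relIndex X := by
  have hi := P.subtype_injective
  have := normal_subgroupOf' nX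
  have := normal_subgroupOf' nY
  have hT' : IsSyl p (T.subgroupOf P) ⊤ := by
    obtain ⟨S, hS⟩ := hT.exists_sylow
    exact hS ▸ isSyl_top S
  have hM' : MinOver (T.subgroupOf P) (M.subgroupOf P) ⊤ := CP.minOver_map_subtype.1 (by
    rwa [map_subgroupOf_of_le hT.le, map_subgroupOf_of_le hM.lt.le])
  have key : ∀ B : Subgroup P, ⁅X.subgroupOf P, B⁆ ≤ Y.subgroupOf P ↔ ⁅X, B.map P.subtype⁆ ≤ Y :=
    fun B => by
      rw [← map_le_map_iff_of_injective hi, map_commutator, map_subgroupOf_of_le hXP,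
        map_subgroupOf_of_le (hYX.trans hXP)]
  have k := star_sec_top hT' hM' (isEA_subgroupOf hX P) (subgroupOf_mono P hYX) ((key _).2 hO)
    (by rwa [key, pRes_map_subtype, ← MonoidHom.range_eq_map, range_subtype])
    (isEA_subgroupOf hA P)
  rw [← pCoreOf_subgroupOf, relIndex_subgroupOf hAP] at k
  refine k.trans ?_
  rw [← relIndex_subgroupOf hXP]
  refine BM.relIndex_anti_left _ fun x hx => CommMod.mem_centMod_of_normal.2 fun a ha => ?_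
  exact hx.2 a ha

theorem le_of_le_sup_comm {X W O : Subgroup G} (hX : IsPGroup p X) (hc : X ≤ 𝐂[X])
    (hO : IsPGroup p O) (nX : O ≤ 𝐍[X]) (nW : O ≤ 𝐍[W]) (hW : W ≤ X) (h : X ≤ W ⊔ ⁅X, O⁆) :
    X ≤ W := by
  by_contra k
  obtain ⟨Z, ⟨z1, z2, z3, z4⟩, hmax⟩ := (wellFounded_gt (α := Subgroup G)).has_min
    {Z | W ≤ Z ∧ Z ≤ X ∧ O ≤ 𝐍[Z] ∧ ¬ X ≤ Z} ⟨W, le_rfl, hW, nW, k⟩
  have ab : ∀ B ≤ X, X ≤ 𝐍[B] := fun B hB =>
    (hc.trans (Amb.centralizer_anti hB)).trans (centralizer_le_normalizer' _)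
  obtain ⟨u, hu, hu', hu2⟩ := CP.exists_notMem_commutator_mem hX hO nX z4
  have h1 : Z ≤ X ⊓ CommMod.centMod O Z := le_inf z2 (CommMod.le_centMod.2
    ⟨le_normalizer, WC.commutator_le_left_of z3⟩)
  have h2 : X ≤ X ⊓ CommMod.centMod O Z := by
    by_contra k2
    exact hmax _ ⟨z1.trans h1, inf_le_left, le_normalizer_inf nX ((le_inf le_normalizer z3).trans
      (CommMod.inf_normalizer_le_normalizer_centMod _ _)), k2⟩ (lt_of_le_not_ge h1 fun k3 =>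
        hu' (k3 ⟨hu, ab Z z2 hu, fun r hr => (hu2 r (mem_sup_right hr)).2⟩))
  exact z4 (h.trans (sup_le z1 (CommMod.le_centMod.1 (h2.trans inf_le_right)).2))

/-- every section with a noncentral chief factor contributes a factor `|A : A ∩ O_p(P)|` -/
theorem star_chain {T M P X Y A : Subgroup G} (hT : IsSyl p T P) (hM : MinOver T M P)
    (hX : IsElementaryAbelian p X) (hYX : Y ≤ X) (hXP : X ≤ P) (nX : P ≤ 𝐍[X]) (nY : P ≤ 𝐍[Y])
    (hK : ¬ ⁅X, 𝐎[p, P]⁆ ≤ Y) (hA : IsElementaryAbelian p A)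
    (hAP : A ≤ P) : (pCoreOf p P).relIndex A ≤ (CommMod.centMod A Y).relIndex X := by
  obtain ⟨Z, ⟨z1, z2, z3, z4⟩, hmin⟩ := (wellFounded_lt (α := Subgroup G)).has_min
    {Z | Y ≤ Z ∧ Z ≤ X ∧ P ≤ 𝐍[Z] ∧ ¬ ⁅Z, 𝐎[p, P]⁆ ≤ Y} ⟨X, hYX, le_rfl, nX, hK⟩
  have hZ := isEA_mono hX z2
  have hOP := pCoreOf_le p P
  have hKP := pRes_le p P
  have n1 : P ≤ 𝐍[Y ⊔ ⁅Z, pCoreOf p P⁆] := le_normalizer_sup nY
    (le_normalizer_commutator z3 (le_normalizer_pCoreOf p P))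
  have l1 : Y ⊔ ⁅Z, pCoreOf p P⁆ ≤ Z := sup_le z1 (WC.commutator_le_left_of (hOP.trans z3))
  have c1 : ⁅Y ⊔ ⁅Z, pCoreOf p P⁆, 𝐎[p, P]⁆ ≤ Y := by
    by_contra k
    refine hmin _ ⟨le_sup_left, l1.trans z2, n1, k⟩ (lt_of_le_not_ge l1 fun k2 => z4 ?_)
    exact (commutator_mono (le_of_le_sup_comm (isEA_isPGroup hZ) (isEA_le_centralizer hZ)
      (isPGroup_pCoreOf p P) (hOP.trans z3) (hOP.trans nY) z1 k2) le_rfl).trans
      (WC.commutator_le_left_of (hKP.trans nY))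
  refine (star_sec hT hM hZ l1 (z2.trans hXP) z3 n1 le_sup_right (fun k => z4 ?_) hA hAP).trans ?_
  · rw [← CP.commutator_pRes_pRes (isEA_isPGroup hZ) z3]
    exact (commutator_mono k le_rfl).trans c1
  · refine le_trans ?_ (relIndex_le_of_le_right z2 (relIndex_pos _ _).ne')
    rw [← inf_relIndex_right (CommMod.centMod A Y)]
    refine BM.relIndex_anti_left _ fun x hx => ⟨n1 (hXP (z2 hx.2)), fun a ha => ?_⟩
    exact mem_sup_left (hx.1.2 a ha)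

/-! ### fixed points -/

theorem fixed_top {T M V A : Subgroup G} [V.Normal] (hT : IsSyl p T ⊤) (hM : MinOver T M ⊤)
    (hV : IsElementaryAbelian p V) (hO : pCore p G ≤ 𝐂[V]) (hC : 𝐂[V] ≤ M)
    (hA : IsElementaryAbelian p A) (hn : ¬ A ≤ 𝐂[V])
    (hi : (𝐂[A]).relIndex V ≤ (𝐂[V]).relIndex A) : 𝐂[V ⊓ 𝐂[T]] ≤ M := by
  have : NeZero p := ⟨(Fact.out : p.Prime).ne_zero⟩
  let _ := quoAct hV
  set f := QuotientGroup.mk' 𝐂[V] with hf
  have hfs : Function.Surjective f := QuotientGroup.mk'_surjective _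
  have hk : f.ker = 𝐂[V] := QuotientGroup.ker_mk' _
  have hT' := hT.map f
  have hM' := hM.map f (inf_le_right.trans (hk.le.trans hC))
  rw [Subgroup.map_top_of_surjective f hfs] at hT' hM'
  have e1 : Nat.card (A.map f) = (𝐂[V]).relIndex A := by rw [← relIndex_ker, hk]
  have e2 := BM.relIndex_mul_card 𝐂[A] V
  have e3 : mm (EA hV) (A.map f) = (𝐂[V]).relIndex A * Nat.card ↥(V ⊓ 𝐂[A]) := by
    rw [mm, (rel_quo A).card_fx, e1]
  obtain ⟨v, hv, hv'⟩ := exists_fixed_not quo_faith EA.p_nsmul hT' hM'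
    (pCore_quot_eq_bot hT hM hC hO) (isEA_map hA f)
    (fun e => hn (by rwa [Subgroup.map_eq_bot_iff, hk] at e))
    (by rw [e3, EA.card_eq, ← e2]; exact Nat.mul_le_mul_right _ hi)
  refine hM.le_of_le (cent_symm inf_le_right) le_top fun e => hv' fun g _ => ?_
  obtain ⟨g, rfl⟩ := hfs g
  exact mk_mem_cent_fx.2 (e (mem_top g)) v hv

theorem fixed {T M P V A : Subgroup G} (hT : IsSyl p T P) (hM : MinOver T M P)
    (hV : IsElementaryAbelian p V) (hVP : V ≤ P) (hn : P ≤ 𝐍[V]) (hO : pCoreOf p P ≤ 𝐂[V])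
    (hC : P ⊓ 𝐂[V] ≤ M) (hA : IsElementaryAbelian p A) (hAP : A ≤ P) (hn' : ¬ A ≤ 𝐂[V])
    (hi : (𝐂[A]).relIndex V ≤ (𝐂[V]).relIndex A) : P ⊓ 𝐂[V ⊓ 𝐂[T]] ≤ M := by
  have hj := P.subtype_injective
  have := normal_subgroupOf' hn
  have hT' : IsSyl p (T.subgroupOf P) ⊤ := by
    obtain ⟨S, hS⟩ := hT.exists_sylow
    exact hS ▸ isSyl_top S
  have hM' : MinOver (T.subgroupOf P) (M.subgroupOf P) ⊤ := CP.minOver_map_subtype.1 (by
    rwa [map_subgroupOf_of_le hT.le, map_subgroupOf_of_le hM.lt.le])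
  have k := fixed_top (A := A.subgroupOf P) hT' hM' (isEA_subgroupOf hV P) (by
    rw [centralizer_subgroupOf hVP, ← pCoreOf_subgroupOf]
    exact subgroupOf_mono P hO) (by
    rw [centralizer_subgroupOf hVP]
    exact fun x hx => hC ⟨x.2, hx⟩) (isEA_subgroupOf hA P) (by
    rw [centralizer_subgroupOf hVP]
    exact fun k => hn' fun a ha => k (x := ⟨a, hAP ha⟩) ha) (by
    rwa [← relIndex_cent_map hj, ← relIndex_cent_map hj, map_subgroupOf_of_le hVP,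
      map_subgroupOf_of_le hAP])
  intro x hx
  refine k (x := ⟨x, hx.1⟩) fun y hy => Subtype.ext (hx.2 y ⟨hy.1, ?_⟩)
  have k2 := hy.2
  rwa [centralizer_subgroupOf hT.le] at k2

/-! ### strong dual offenders -/

theorem card_hom_le (H : Type*) [Group H] [Finite H] : Nat.card (H →* ℂˣ) ≤ Nat.card H := by
  have := Fintype.ofFinite H
  have h := (linearIndependent_monoidHom H ℂ).comp (fun φ : H →* ℂˣ => (Units.coeHom ℂ).comp φ)
    fun a b e => MonoidHom.ext fun x => Units.ext (DFunLike.congr_fun e x)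
  have := h.finite
  have := Fintype.ofFinite (H →* ℂˣ)
  have k := h.fintype_card_le_finrank
  rwa [Module.finrank_fintype_fun_eq_card, ← Nat.card_eq_fintype_card,
    ← Nat.card_eq_fintype_card] at k

theorem off_of_sdo {V A : Subgroup G} (hV : V ≤ 𝐂[V]) (hn : A ≤ 𝐍[V]) (hq : ⁅⁅V, A⁆, A⁆ = ⊥)
    (h : ∀ v ∈ V, v ∉ 𝐂[A] → ∀ w ∈ ⁅V, A⁆, ∃ a ∈ A, ⁅v, a⁆ = w) :
    (𝐂[A]).relIndex V ≤ (𝐂[V]).relIndex A := by
  by_cases h0 : V ≤ 𝐂[A]
  · rw [relIndex_eq_one.2 h0]; exact relIndex_pos _ _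
  have hW : ⁅V, A⁆ ≤ V := WC.commutator_le_left_of hn
  have hq' := commutator_eq_bot_iff_le_centralizer.1 hq
  obtain ⟨⟨w, hw⟩, hw1⟩ := ne_bot_iff_exists_ne_one.1
    fun e => h0 (commutator_eq_bot_iff_le_centralizer.1 e)
  let _ : CommGroup V := { mul_comm := fun a b => Subtype.ext (hV b.2 a a.2) }
  obtain ⟨χ, hχ⟩ := CommGroup.exists_apply_ne_one_of_hasEnoughRootsOfUnity V ℂ
    (a := ⟨w, hW hw⟩) fun e => hw1 (Subtype.ext (show w = 1 from congrArg Subtype.val e))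
  have m : ∀ (v : V) (a : A), ⁅(v : G), (a : G)⁆ ∈ V := fun v a =>
    hW (commutator_mem_commutator v.2 a.2)
  have : ((𝐂[V]).subgroupOf A).Normal := normal_subgroupOf' (le_normalizer_centralizer hn)
  let φ : V → A →* ℂˣ := fun v => MonoidHom.mk' (fun a => χ ⟨_, m v a⟩) fun a b => by
    rw [← map_mul]
    congr 1
    refine Subtype.ext ?_
    show ⁅(v : G), (a : G) * b⁆ = ⁅(v : G), (a : G)⁆ * ⁅(v : G), (b : G)⁆
    rw [BM.comm_mul_right, hq' (commutator_mem_commutator v.2 b.2) a a.2, mul_inv_cancel_right]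
  let ψ : V → (A ⧸ (𝐂[V]).subgroupOf A →* ℂˣ) := fun v => QuotientGroup.lift _ (φ v) fun a ha => by
    show χ ⟨_, m v a⟩ = 1
    rw [← map_one χ]
    congr 1
    exact Subtype.ext (commutatorElement_eq_one_iff_mul_comm.2 (ha v v.2))
  refine le_trans ?_ (card_hom_le _)
  have := (linearIndependent_monoidHom (A ⧸ (𝐂[V]).subgroupOf A) ℂ).comp
    (fun φ : _ →* ℂˣ => (Units.coeHom ℂ).comp φ)
    fun a b e => MonoidHom.ext fun x => Units.ext (DFunLike.congr_fun e x)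
  have := this.finite
  refine Nat.card_le_card_of_injective (fun q : V ⧸ (𝐂[A]).subgroupOf V => ψ q.out)
    fun q₁ q₂ e => ?_
  rw [← q₁.out_eq, ← q₂.out_eq]
  refine QuotientGroup.eq.2 (mem_subgroupOf.2 ?_)
  by_contra k
  obtain ⟨a, ha, ea⟩ := h _ (q₁.out⁻¹ * q₂.out).2 k w hw
  have e1 : φ q₁.out ⟨a, ha⟩ = φ q₂.out ⟨a, ha⟩ := 
    DFunLike.congr_fun e (QuotientGroup.mk (⟨a, ha⟩ : A))
  refine hχ ?_
  rw [← inv_mul_eq_one.2 e1]
  show _ = (χ ⟨_, m _ ⟨a, ha⟩⟩)⁻¹ * χ ⟨_, m _ ⟨a, ha⟩⟩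
  rw [← map_inv, ← map_mul]
  congr 1
  refine Subtype.ext ?_
  show w = ⁅(q₁.out : G), a⁆⁻¹ * ⁅(q₂.out : G), a⁆
  have m1 : ⁅(q₁.out : G), a⁆ ∈ V := m q₁.out ⟨a, ha⟩
  have m2 : ⁅(q₂.out : G), a⁆ ∈ V := m q₂.out ⟨a, ha⟩
  have e2 : ⁅((q₁.out⁻¹ * q₂.out : V) : G), a⁆ = (q₁.out : G)⁻¹ * (⁅(q₂.out : G), a⁆ *
      ⁅(q₁.out : G), a⁆⁻¹) * q₁.out := by
    simp only [commutatorElement_def, coe_mul, coe_inv]; group
  rw [← ea, e2, mul_assoc, hV q₁.out.2 _ (V.mul_mem m2 (V.inv_mem m1)), inv_mul_cancel_left]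
  exact (hV m2 _ (V.inv_mem m1)).symm

/-! ### pushing up -/

theorem exists_r1_of_cen {R L M : Subgroup G} (hL : IsCharP 2 L) (hR : IsSyl 2 R L) (hM : ¬ L ≤ M)
    (hB1 : 𝐁[2, R] ≠ ⊥) (hn : ∀ C, Ch 𝐁[2, R] C → C ≠ ⊥ → L ⊓ 𝐍[C] ≤ M)
    (hc : L ⊓ 𝐂[ΩZ[2, R]] ≤ M) : ∃ E, R1 𝐁[2, R] E ∧ E ≤ L ∧ ¬ E ≤ M := by
  have hb := bau_baumann hR
  have hBL : 𝐁[2, R] ≤ L := hb.le
  have hi := L.subtype_injective
  have ms : MS 2 ((𝐁[2, R]).subgroupOf L) (M.subgroupOf L) := by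
    refine ⟨CP.isCharP_top_iff.2 (CP.isCharP_iff.1 hL), (bau_subgroupOf hBL).2 hb,
      fun C hC hne => ?_, fun T hT h1 => ?_⟩
    · have h2 := (ch_map_iff hi).2 hC
      rw [map_subgroupOf_of_le hBL] at h2
      rw [normalizer_eq_subgroupOf]
      exact fun x hx => hn _ h2 (by rwa [Ne, map_eq_bot_iff_of_injective _ hi]) ⟨x.2, hx⟩
    · have hT' := hT.map L.subtype
      rw [← MonoidHom.range_eq_map, L.range_subtype] at hT'
      have h4 : 𝐁[2, R] ≤ T.map L.subtype := by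
        rw [← map_subgroupOf_of_le hBL]; exact map_mono h1
      rw [centralizer_eq_subgroupOf, map_omegaOne_center _ hi]
      obtain ⟨g, hg, e⟩ := hT'.exists_cj_eq hR
      have h2 : g ∈ 𝐍[𝐁[2, R]] := by
        rw [← cj_eq_iff, ← baumann_cj, e]; exact hb.eq _ hT'.pgrp h4 hT'.le
      have h3 : g ∈ M := hn _ (ch_self _) hB1 ⟨hg, h2⟩
      rw [← e, CP.omegaZ_cj, centralizer_cj]
      intro x hx
      have k := hc (mem_inf.2 ⟨mul_mem (mul_mem (inv_mem hg) x.2) hg, mem_cj.1 hx⟩)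
      have : (x : G) = g * (g⁻¹ * x * g) * g⁻¹ := by group
      rw [mem_subgroupOf, this]
      exact mul_mem (mul_mem h3 k) (inv_mem h3)
  obtain ⟨E, h, hE⟩ := ms.exists_r1 (fun k => hM (subgroupOf_eq_top.1 k))
  have h' := (r1_map_iff hi).2 h
  rw [map_subgroupOf_of_le hBL] at h'
  exact ⟨_, ⟨h'.1, h'.2⟩, map_subtype_le E, fun k => hE (map_le_iff_le_comap.1 k)⟩

theorem push_baum {T H M L R : Subgroup G} (hT : IsSyl 2 T ⊤)
    (hev : ∀ H, T ≤ H → pCoreOf 2 H ≠ ⊥ → IsCharP 2 H) (hTH : T ≤ H) (hcH : IsCharP 2 H)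
    (hB1 : 𝐁[2, T] ≠ ⊥)
    (key : ∀ Y, Y ≠ ⊥ → Y ≤ 𝐁[2, T] → 𝐍[𝐁[2, T]] ≤ 𝐍[Y] → H ⊓ 𝐍[Y] ≤ M) (hLH : L ≤ H)
    (hL : IsCharP 2 L) (hR : IsSyl 2 R L) (hM : ¬ L ≤ M) (e : 𝐁[2, R] = 𝐁[2, T])
    (hc : L ⊓ 𝐂[ΩZ[2, R]] ≤ M) : False := by
  have hTH' := hT.mono hTH le_top
  obtain ⟨E, h, hE, hEM⟩ := exists_r1_of_cen hL hR hM (e ▸ hB1)
    (fun C a b => (inf_le_inf_right _ hLH).trans (key C b (e ▸ a.le) (e ▸ a.normalizer_le))) hc
  rw [e] at h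
  have hTB := le_normalizer.trans (normalizer_le_normalizer_baumann (p := 2) T)
  have hBT := baumann_le (p := 2) T
  obtain ⟨Y, y1, y2, y3, y4⟩ := h.exists_norm fun n hn => h.push (hT.mono hTB le_top) hBT
    (fun D a b c => ⟨hev _ c fun e => b (le_bot_iff.1 (e ▸ le_pCoreOf (hT.pgrp.to_le (a.trans hBT))
      le_normalizer le_rfl)), (hT.mono c le_top).pCoreOf_le.trans hTB⟩)
    (fun t ht => by
      rw [← W_cj]
      exact (h.cj (hTB ht)).blk.lemP h.blk hcH (hBT.trans hTH)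
        (cj_le_of_mem (hE.trans hLH) (hTH ht)) (hE.trans hLH) (hTH'.pCoreOf_le.trans hTB)) hn
  exact hEM ((le_inf (hE.trans hLH) y4).trans (key Y y1 y2 y3))

end Cfsg.Agent.QT.Qrc
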