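import Mathlib
import Cfsg.Agent.QT.Struct
import Cfsg.Agent.QT.KA
import Cfsg.Agent.Misc.KnownCongr

/-!
Members of `ℋ` in a simple QTKE-group.
-/

set_option autoImplicit false

namespace Cfsg.Agent.QT

open Subgroup Cfsg Cfsg.Agent.PLocal Cfsg.Agent.PLocal.Amb Cfsg.Agent.Grp
open scoped commutatorElement

variable {G : Type*} [Group G] [Finite G]

theorem tameComp_of_isKGroup (hS : IsStronglyQuasithin G) (hK : IsKGroup G) : TameComp G := by
  intro K hc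
  haveI := hc.2.2
  have hna : ¬ IsMulCommutative (K ⧸ center K) := fun e => by
    haveI : Group.IsSolvable (K ⧸ center K) := isSolvable_of_comm fun a b => e.is_comm.comm a b
    haveI : Group.IsSolvable (center K) := isSolvable_of_comm fun a b => mul_comm' a b
    exact qs_not_solvable hc.2 (solvable_of_ker_le_range (center K).subtype
      (QuotientGroup.mk' (center K)) (by rw [QuotientGroup.ker_mk', range_subtype]))
  refine (tame_or_big hna (Misc.isKnownSimple'_quotient_center (Misc.isKGroup_subgroup hK K)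
    hc.2)).resolve_right fun hB => ?_
  exact hB.not_sqt (QuotientGroup.mk' _) (QuotientGroup.mk'_surjective _)
    (QuotientGroup.ker_mk' _).le (sqt_subgroup hS K)

omit [Finite G] in
theorem sqt_of_qt (hQ : IsQuasithin G) {H : Subgroup G} (hH : pCoreOf 2 H ≠ ⊥) :
    IsStronglyQuasithin H := fun p hp hp2 =>
  FT.R2.pRankLE_of_le (Amb.le_normalizer_pCoreOf 2 H)
    (hQ p hp hp2 _ ⟨_, Amb.isPGroup_pCoreOf 2 H, hH, rfl⟩)

theorem ne_top_of_pCoreOf [IsSimpleGroup G] (hG : ¬ IsMulCommutative G) {H : Subgroup G}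
    (hH : pCoreOf 2 H ≠ ⊥) : H ≠ ⊤ := by
  rintro rfl
  rw [Amb.pCoreOf_top] at hH
  have h1 := (IsSimpleGroup.eq_bot_or_eq_top_of_normal (pCore 2 G) inferInstance).resolve_left hH
  have h2 : IsPGroup 2 G := (h1 ▸ CP.isPGroup_pCore 2 G).of_equiv topEquiv
  haveI := h2.isNilpotent
  exact hG ⟨⟨IsSimpleGroup.comm_iff_isSolvable.2 inferInstance⟩⟩

theorem tameComp_of_qtke [IsSimpleGroup G] (hG : ¬ IsMulCommutative G) (hQ : IsQTKE G)
    {H : Subgroup G} (hH : pCoreOf 2 H ≠ ⊥) : TameComp (H ⧸ pCore 2 H) :=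
  tameComp_of_isKGroup (sqt_quotient (sqt_of_qt hQ.1 hH))
    (Misc.isKGroup_quotient (hQ.2.1 H (ne_top_of_pCoreOf hG hH)) _)

theorem exists_maxTwoLocal {H : Subgroup G} (hH : pCoreOf 2 H ≠ ⊥) :
    ∃ M, IsMaximalTwoLocal M ∧ H ≤ M := by
  obtain ⟨M, ⟨h1, h2⟩, h3⟩ := (wellFounded_gt (α := Subgroup G)).has_min
    {M | IsTwoLocal M ∧ H ≤ M}
    ⟨_, ⟨_, Amb.isPGroup_pCoreOf 2 H, hH, rfl⟩, Amb.le_normalizer_pCoreOf 2 H⟩
  exact ⟨M, ⟨h1, fun N hN hMN => (eq_of_le_of_not_lt hMN (h3 N ⟨hN, h2.trans hMN⟩)).symm⟩, h2⟩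

omit [Finite G] in
theorem pCoreOf_ne_bot_of_twoLocal {M : Subgroup G} (h : IsTwoLocal M) : pCoreOf 2 M ≠ ⊥ := by
  obtain ⟨R, h1, h2, rfl⟩ := h
  exact fun e => h2 (le_bot_iff.1 (e ▸ Amb.le_pCoreOf h1 le_normalizer le_rfl))

omit [Finite G] in
theorem eq_normalizer_of_max {M X : Subgroup G} (h : IsMaximalTwoLocal M) (hX : pCoreOf 2 X ≠ ⊥)
    (hn : M ≤ 𝐍[X]) : M = 𝐍[X] :=
  le_antisymm hn ((Amb.normalizer_le_normalizer_pCoreOf 2 X).trans
    (h.2 _ ⟨_, Amb.isPGroup_pCoreOf 2 X, hX, rfl⟩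
      (hn.trans (Amb.normalizer_le_normalizer_pCoreOf 2 X))).le)

theorem maxTwoLocals_eq {H X : Subgroup G} (hH : pCoreOf 2 H ≠ ⊥) (hX : pCoreOf 2 X ≠ ⊥)
    (h : ∀ M, IsMaximalTwoLocal M → H ≤ M → M ≤ 𝐍[X]) : maxTwoLocalsContaining H = {𝐍[X]} := by
  ext M
  constructor
  · exact fun hM => eq_normalizer_of_max hM.1 hX (h M hM.1 hM.2)
  · rintro rfl
    obtain ⟨M, h1, h2⟩ := exists_maxTwoLocal hH
    rw [← eq_normalizer_of_max h1 hX (h M h1 h2)]
    exact ⟨h1, h2⟩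

omit [Finite G] in
theorem pCoreOf_ne_bot_of_isCharP {X : Subgroup G} (h : CP.IsCharP 2 X) (hX : X ≠ ⊥) :
    pCoreOf 2 X ≠ ⊥ := fun e => hX (le_bot_iff.1 (by
  have := h
  rw [CP.IsCharP, e] at this
  exact (le_inf le_rfl (le_centralizer_iff.1 bot_le)).trans this))

theorem isSyl_subgroupOf_top (T : Sylow 2 G) {H : Subgroup G} (h : (T : Subgroup G) ≤ H) :
    IsSyl 2 ((T : Subgroup G).subgroupOf H) ⊤ := by
  have := isSyl_subgroupOf (isSyl_of_le T h) le_rfl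
  rwa [subgroupOf_self] at this

omit [Finite G] in
theorem IsCC.subgroupOf {L B H : Subgroup G} (h : IsCC L B) (hB : B ≤ H) :
    IsCC (L.subgroupOf H) (B.subgroupOf H) := by
  refine IsCC.of_map_of_injective H.subtype_injective ?_
  rwa [map_subgroupOf_eq_of_le (h.le.trans hB), map_subgroupOf_eq_of_le hB]

omit [Finite G] in
theorem IsCC.subgroupOf_top {L H : Subgroup G} (h : IsCC L H) : IsCC (L.subgroupOf H) ⊤ := by
  have := h.subgroupOf le_rfl
  rwa [subgroupOf_self] at this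

omit [Finite G] in
theorem IsCC.map_subtype {H : Subgroup G} {L : Subgroup H} (h : IsCC L ⊤) :
    IsCC (L.map H.subtype) H := calC_iff_map.1 (isCC_top_iff.1 h)

/-- A `𝒞`-component of a member of `ℋ(T)` is a member of `ℒ(G, T)`. -/
theorem IsCC.mem_calL (T : Sylow 2 G) {K H : Subgroup G} (h : IsCC K H) (hT : (T : Subgroup G) ≤ H)
    (hH : pCoreOf 2 H ≠ ⊥) : K ∈ calL (T : Subgroup G) := by
  refine mem_calL_iff.2 ⟨h.mono le_sup_left (sup_le h.le hT), fun e => hH (le_bot_iff.1 ?_)⟩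
  rw [← e]
  exact pCoreOf_le_of_le (sup_le h.le hT) ((CP.pCoreOf_le_sylow T hT).trans le_sup_right)

omit [Finite G] in
/-- `L / O₂(L)` is the image of `L` in `G / O₂(G)`. -/
noncomputable def IsCC.quotient_equiv {L : Subgroup G} (h : IsCC L ⊤) :
    L ⧸ pCore 2 L ≃* L.map (QuotientGroup.mk' (pCore 2 G)) :=
  (QuotientGroup.quotientMulEquivOfEq (by
    rw [← Amb.pCoreOf_subgroupOf, CP.pCoreOf_eq_inf_of_subnormal (snIn_top_iff.1 h.sn)]
    ext x
    simp [MonoidHom.mem_ker, mem_subgroupOf, Subtype.ext_iff])).trans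
    (QuotientGroup.quotientKerEquivOfSurjective _
      ((QuotientGroup.mk' (pCore 2 G)).subgroupMap_surjective L))

end Cfsg.Agent.QT
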