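import Mathlib
import Cfsg.Agent.QT.XfMod
import Cfsg.Agent.QT.Xi2
import Cfsg.Agent.S1349

/-! A `p`-group `P` of rank 2 (`|P| ≤ p³`) acting on an elementary abelian 2-group with a
`q̂ ≤ 2` offender: `p = 5` and `Aut` is a `{2,5}`-group (for S1852). -/

set_option autoImplicit false
set_option linter.unusedSectionVars false

namespace Cfsg.Agent.QT.Xf

open Subgroup Cfsg Cfsg.Agent.PLocal Cfsg.Agent.PLocal.Amb Cfsg.Agent.PLocal.CommMod
open scoped commutatorElement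

variable {Γ : Type*} [Group Γ] [Finite Γ] {p : ℕ} [hp : Fact p.Prime] {P Φ : Subgroup Γ}

theorem mem_cop {H : Subgroup Γ} {a : Γ} {m n : ℕ} (h : m.Coprime n) (h1 : a ^ m ∈ H)
    (h2 : a ^ n ∈ H) : a ∈ H := by
  have e := Nat.gcd_eq_gcd_ab m n
  rw [h.gcd_eq_one, Nat.cast_one] at e
  rw [← zpow_one a, e, zpow_add, zpow_mul, zpow_mul, zpow_natCast, zpow_natCast]
  exact mul_mem (zpow_mem h1 _) (zpow_mem h2 _)

/-- The data of `X/O₂(X)` or of its image on a module. -/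
structure PD (p : ℕ) (P Φ : Subgroup Γ) : Prop where
  Pp : IsPGroup p P
  ΦP : Φ ≤ P
  comm : ⁅P, P⁆ ≤ Φ
  frat : ∀ N, N ≤ P → P ≤ Φ ⊔ N → P ≤ N
  noncyc : ∀ g ∈ P, ¬ P ≤ Φ ⊔ zpowers g
  rel : Nat.card P ≤ Nat.card Φ * p ^ 2
  card : Nat.card P ≤ p ^ 3

theorem pd_of {H : Type*} [Group H] [Finite H] {X Φ Q P T : Subgroup H} (h : XiData p X Φ Q P T)
    (hr : Φ.relIndex X ≤ p ^ 2) (f : H →* Γ) (hQ : Q ≤ f.ker) (hk : X ⊓ f.ker ≤ Φ) :
    PD p (X.map f) (Φ.map f) := by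
  have e0 : Q.map f = ⊥ := (Subgroup.map_eq_bot_iff _).2 hQ
  have e : X.map f = P.map f := le_antisymm
    ((map_mono h.QP).trans (by rw [Subgroup.map_sup, e0, bot_sup_eq])) (map_mono h.PX)
  have back : ∀ N, N ≤ X → X.map f ≤ Φ.map f ⊔ N.map f → X ≤ Φ ⊔ N := fun N h1 h2 x hx => by
    rw [← Subgroup.map_sup] at h2
    obtain ⟨s, hs, e⟩ := h2 ⟨x, hx, rfl⟩
    have hs' : s ∈ X := sup_le h.ΦX h1 hs
    have : s⁻¹ * x ∈ Φ := hk ⟨X.mul_mem (X.inv_mem hs') hx, MonoidHom.mem_ker.2 (by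
      rw [map_mul, map_inv, e, inv_mul_cancel])⟩
    simpa using mul_mem hs (mem_sup_left this)
  refine ⟨e ▸ h.Pp.map f, map_mono h.ΦX, by rw [← map_commutator]; exact map_mono h.comm,
    fun N h1 h2 => ?_, ?_, ?_, ?_⟩
  · have e1 : (X ⊓ N.comap f).map f = N := by
      rw [inf_comm, map_comap_inf f h1]
    have := map_mono (f := f) (h.frat _ inf_le_left (back _ inf_le_left (by rwa [e1])))
    rwa [Subgroup.map_sup, e0, bot_sup_eq, e1] at this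
  · rintro _ ⟨g, hg, rfl⟩ h2
    exact h.noncyc g hg (back _ (zpowers_le.2 hg) (by rwa [MonoidHom.map_zpowers]))
  · rw [← Grp.card_mul_relIndex_of_le (map_mono (f := f) h.ΦX), ← relIndex_comap]
    exact Nat.mul_le_mul_left _ ((relIndex_le_of_le_left (le_comap_map f Φ)
      index_ne_zero_of_finite).trans hr)
  · rw [e]; exact (Nat.le_of_dvd Nat.card_pos (card_map_dvd _ f)).trans h.cardP

theorem mul_le_of_lt (h : IsPGroup p P) {H K : Subgroup Γ} (h1 : H < K) (h2 : K ≤ P) :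
    Nat.card H * p ≤ Nat.card K := by
  obtain ⟨a, ha⟩ := IsPGroup.iff_card.1 (h.to_le (h1.le.trans h2))
  obtain ⟨b, hb⟩ := IsPGroup.iff_card.1 (h.to_le h2)
  have := Grp.card_lt_card_of_lt h1
  rw [ha, hb, Nat.pow_lt_pow_iff_right hp.out.one_lt] at this
  rw [ha, hb, ← pow_succ]
  exact Nat.pow_le_pow_right hp.out.pos this

namespace PD

theorem nΦ (h : PD p P Φ) : P ≤ 𝐍[Φ] :=
  le_normalizer_iff_commutator_le_left.2 ((commutator_mono h.ΦP le_rfl).trans h.comm)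

theorem cen (h : PD p P Φ) : Φ ≤ 𝐂[P] := by
  by_cases h1 : Φ = ⊥
  · rw [h1]; exact bot_le
  have h2 : Nat.card Φ * p ^ 2 ≤ Nat.card P := by
    by_contra! k
    obtain ⟨g, hg, e⟩ := exists_le_sup_zpowers_of_card h.Pp h.ΦP k
    exact h.noncyc g hg e
  have h3 : Nat.card Φ ≤ p := by
    have := h2.trans h.card
    rw [pow_succ' p 2] at this
    exact Nat.le_of_mul_le_mul_right this (pow_pos hp.out.pos 2)
  have h4 := mul_le_of_lt h.Pp (bot_lt_iff_ne_bot.2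
    (inf_centralizer_ne_bot h.Pp (h.Pp.to_le h.ΦP) h.nΦ h1)) (inf_le_left.trans h.ΦP)
  rw [card_bot, one_mul] at h4
  exact inf_eq_left.1 (eq_of_le_of_card_ge inf_le_left (h3.trans h4))

theorem two (h : PD p P Φ) {x y : Γ} (hx : x ∈ P) (hy : y ∈ P) (h1 : x ∉ Φ)
    (h2 : y ∉ Φ ⊔ zpowers x) : P ≤ zpowers x ⊔ zpowers y := by
  have l1 : Φ ⊔ zpowers x ≤ P := sup_le h.ΦP (zpowers_le.2 hx)
  have l2 : Φ ⊔ zpowers x ⊔ zpowers y ≤ P := sup_le l1 (zpowers_le.2 hy)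
  have t1 := mul_le_of_lt h.Pp (left_lt_sup.2 fun e => h1 (e (mem_zpowers x))) l1
  have t2 := mul_le_of_lt h.Pp (left_lt_sup.2 fun e => h2 (e (mem_zpowers y))) l2
  refine h.frat _ (sup_le (zpowers_le.2 hx) (zpowers_le.2 hy)) ?_
  rw [← sup_assoc, eq_of_le_of_card_ge l2 (h.rel.trans ?_)]
  rw [pow_two, ← mul_assoc]
  exact (Nat.mul_le_mul_right _ t1).trans t2

theorem bur (h : PD p P Φ) {g : Γ} {n : ℕ} (hn : n.Coprime p) (h1 : g ∈ 𝐍[P])
    (h2 : g ∈ centMod P Φ) (h3 : g ^ n ∈ 𝐂[P]) : g ∈ 𝐂[P] := by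
  obtain ⟨k, m, hm, e⟩ := Nat.exists_eq_pow_mul_and_not_dvd (orderOf_pos g).ne' p hp.out.ne_one
  refine mem_cop (hn.pow_right k) h3 ?_
  obtain ⟨b, hb⟩ := IsPGroup.iff_card.1 h.Pp
  have hc : (Nat.card (zpowers (g ^ p ^ k))).Coprime (Nat.card P) := by
    rw [Nat.card_zpowers, hb]
    refine Nat.Coprime.pow_right _ (Nat.Coprime.coprime_dvd_left (k := m) ?_
      ((Nat.Prime.coprime_iff_not_dvd hp.out).2 hm).symm)
    exact orderOf_dvd_of_pow_eq_one (by rw [← pow_mul, ← e, pow_orderOf_eq_one])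
  have t := Solv.coprime_commutator_sup_centralizer (zpowers (g ^ p ^ k)) P
    (zpowers_le.2 (pow_mem h1 _)) hc (Or.inl inferInstance)
  have t2 : P ≤ P ⊓ 𝐂[zpowers (g ^ p ^ k)] := h.frat _ inf_le_left (t.ge.trans (sup_le_sup_right
    (by rw [commutator_comm]; exact (le_centMod.1 (zpowers_le.2 (pow_mem h2 _))).2) _))
  exact le_centralizer_iff.1 (t2.trans inf_le_right) (mem_zpowers _)

theorem pw (h : PD p P Φ) {x : Γ} (hx : x ∈ P) : ∃ k, x ^ p ^ k = 1 := by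
  obtain ⟨k, e⟩ := h.Pp ⟨x, hx⟩
  exact ⟨k, congrArg Subtype.val e⟩

theorem step (h : PD p P Φ) (h5 : 5 ≤ p) {A B : Subgroup Γ} (hA : IsElementaryAbelian 2 A)
    (nP : A ≤ 𝐍[P]) (nΦ : A ≤ 𝐍[Φ]) (hf : A ⊓ 𝐂[P] = ⊥) (hB : B ≤ A) (h1 : B ≠ ⊥) :
    ∃ B' b x, Sig.Hyp 2 B' A ∧ b ∈ B ∧ b ∉ B' ∧ x ∈ P ∧ x ∉ Φ ∧ b * x * b⁻¹ = x⁻¹ ∧ x ∈ 𝐂[B'] ∧
      ∀ g ∈ A, ∃ c ∈ B', g = c ∨ g = c * b := by
  have : Fact (Nat.Prime 2) := ⟨Nat.prime_two⟩
  have h2 : (2 : ℕ) ≠ p := by omega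
  obtain ⟨B', t1, t2⟩ := Sig.exists_hyp_not_le (X := P) (L := centMod B Φ) hA
    (fun e => h1 (le_bot_iff.1 (e ▸ hB))) nP (Sig.not_dvd_of_isPGroup h2.symm h.Pp) (fun e => h1 (by
      rw [eq_bot_iff, ← hf]
      refine fun b hb => ⟨hB hb, h.bur ((Nat.coprime_primes Nat.prime_two hp.out).2 h2)
        (nP (hB hb)) (le_centMod.2 ⟨hB.trans nΦ, by rw [commutator_comm]; exact (le_centMod.1 e).2⟩ hb)
        (by rw [hA.2 b (hB hb)]; exact one_mem _)⟩))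
  obtain ⟨y, hy, hy2⟩ := SetLike.not_le_iff_exists.1 t2
  rw [mem_centMod, not_and, not_forall₂] at hy2
  obtain ⟨b, hb, hb2⟩ := hy2 (h.nΦ hy.1)
  have hb3 : b ∉ B' := fun e => hb2 (by
    rw [commutatorElement_eq_one_iff_mul_comm.2 (hy.2 b e).symm]; exact one_mem _)
  obtain ⟨e1, e2, e3⟩ := S1349.eigen hA t1 (hB hb) hb3 hy.2
  refine ⟨B', b, _, t1, hb, hb3, mul_mem (inv_mem hy.1)
    (Amb.conj_mem_of_mem_normalizer (nP (hB hb)) hy.1), fun e => hb2 ?_, e1, e3, e2⟩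
  have := inv_mem (Amb.conj_mem_of_mem_normalizer (h.nΦ hy.1) e)
  simpa [commutatorElement_def, mul_assoc] using this

end PD

variable {W : Type*} [CommGroup W] [Finite W] {P Φ : Subgroup (MulAut W)}

theorem PD.ex5 (h : PD p P Φ) (hW : ∀ w : W, w ^ 2 = 1) (h5 : 5 ≤ p) {A : Subgroup (MulAut W)}
    (hA : IsElementaryAbelian 2 A) (h1 : A ≠ ⊥) (nP : A ≤ 𝐍[P]) (nΦ : A ≤ 𝐍[Φ])
    (hf : A ⊓ 𝐂[P] = ⊥) {F : Subgroup W} (hF : ∀ a ∈ A, F ≤ fx a)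
    (hi : F.index ≤ Nat.card A ^ 2) : p = 5 ∧ ∃ x ∈ P, x ∉ Φ ∧ (fx x).index ≤ 16 := by
  have : Fact (Nat.Prime 2) := ⟨Nat.prime_two⟩
  obtain ⟨B, a, x, t1, t2, t3, t4, t5, t6, t7, t8⟩ := h.step h5 hA nP nΦ hf le_rfl h1
  suffices p = 5 ∧ (fx x).index ≤ 16 from ⟨this.1, x, t4, t5, this.2⟩
  obtain ⟨k, hk⟩ := h.pw t4
  have hx1 : x ≠ 1 := fun e => t5 (e ▸ one_mem _)
  have hle : ∀ {U : Subgroup W}, F ≤ U → U.index ≤ Nat.card A ^ 2 := fun e =>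
    (Nat.le_of_dvd (Nat.pos_of_ne_zero index_ne_zero_of_finite) (index_dvd_of_le e)).trans hi
  by_cases hB : B = ⊥
  · have := t1.card_mul
    rw [hB, card_bot, one_mul] at this
    refine small hW h5 hk hx1 (hA.2 a t2) t6
      ((relIndex_le_of_le_right le_top index_ne_zero_of_finite).trans ?_)
    rw [relIndex_top_right]
    exact (hle (hF a t2)).trans (by rw [← this]; norm_num)
  obtain ⟨B', b, y, s1, s2, s3, s4, s5, s6, s7, -⟩ := h.step h5 hA nP nΦ hf t1.1 hB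
  obtain ⟨l, hl⟩ := h.pw s4
  have hb := t1.1 s2
  have hbx : Commute x b := (t7 b s2).symm
  have hy : y ∉ Φ ⊔ zpowers x := fun e => by
    have : Φ ⊔ zpowers x ≤ centMod (zpowers b) Φ := le_centMod.2
      ⟨(sup_le h.ΦP (zpowers_le.2 t4)).trans h.nΦ, commutator_sup_le le_normalizer
        ((zpowers_le.2 t4).trans h.nΦ)
        (le_normalizer_iff_commutator_le_left.1 ((zpowers_le.2 hb).trans nΦ))
        ((commutator_eq_bot_iff_le_centralizer.2 (zpowers_le.2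
          (centralizer_le (zpowers_le.2 s2) t7))).le.trans bot_le)⟩
    have e2 := (mem_centMod.1 (this e)).2 b (mem_zpowers b)
    have e3 : ⁅y, b⁆ = y ^ 2 := by
      calc ⁅y, b⁆ = y * (b * y * b⁻¹)⁻¹ := by rw [commutatorElement_def]; group
        _ = y ^ 2 := by rw [s6, inv_inv, pow_two]
    exact s5 (mem_cop (((Nat.coprime_primes Nat.prime_two hp.out).2 (by omega)).pow_right l)
      (e3 ▸ e2) (by rw [hl]; exact one_mem _))
  have hc : Nat.card A ≤ 4 := by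
    have e : B ⊓ B' = ⊥ := by
      rw [eq_bot_iff, ← hf]
      refine le_inf (inf_le_left.trans t1.1) (le_centralizer_iff.1 ((h.two t4 s4 t5 hy).trans
        (sup_le (zpowers_le.2 (centralizer_le inf_le_left t7))
          (zpowers_le.2 (centralizer_le inf_le_right s7)))))
    have := t1.card_le_inf s1
    rwa [e, card_bot] at this
  have hle' : ∀ {U : Subgroup W}, F ≤ U → U.index ≤ 16 := fun e => (hle e).trans (by nlinarith)
  obtain ⟨c, c1, c2⟩ : ∃ c ∈ B', c ∉ B := by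
    by_contra! e
    have := t1.card_mul.trans s1.card_mul.symm
    exact s3 (eq_of_le_of_card_ge (show B' ≤ B from e) (by omega) ▸ s2)
  have hc' := s1.1 c1
  have hcx : c * x * c⁻¹ = x⁻¹ := by
    obtain ⟨d, d1, d2⟩ := t8 c hc'
    rw [d2.resolve_left fun e => c2 (e ▸ d1)]
    calc d * a * x * (d * a)⁻¹ = d * (a * x * a⁻¹) * d⁻¹ := by group
      _ = x⁻¹ := by rw [t6, inv_mem t7 d d1, mul_inv_cancel_right]
  have hcy : Commute y c := (s7 c c1).symm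
  have hcb : Commute c b := isEA_comm hA hc' hb
  by_cases hz : ⁅x, y⁆ = 1
  · exact four hW h5 hk hl hx1 (fun e => s5 (e ▸ one_mem _)) (hA.2 c hc') (hA.2 b hb)
      (commutatorElement_eq_one_iff_commute.1 hz) hcb hcx s6 hbx hcy
      (hle' (le_inf (hF c hc') (hF b hb)))
  have z1 : ⁅x, y⁆ ∈ Φ := h.comm (commutator_mem_commutator t4 s4)
  have z2 := h.cen z1
  obtain ⟨m, hm⟩ := h.pw (h.ΦP z1)
  have z3 : b * ⁅x, y⁆ * b⁻¹ = ⁅x, y⁆⁻¹ := by
    rw [conjugate_commutatorElement, s6, ← hbx.eq, mul_inv_cancel_right]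
    calc ⁅x, y⁻¹⁆ = y⁻¹ * ⁅x, y⁆⁻¹ * y := by simp only [commutatorElement_def]; group
      _ = _ := by rw [inv_mem z2 _ (inv_mem s4), inv_mul_cancel_right]
  have z4 : c * ⁅x, y⁆ * c⁻¹ = ⁅x, y⁆⁻¹ := by
    rw [conjugate_commutatorElement, hcx, ← hcy.eq, mul_inv_cancel_right]
    calc ⁅x⁻¹, y⁆ = x⁻¹ * ⁅x, y⁆⁻¹ * x := by simp only [commutatorElement_def]; group
      _ = _ := by rw [inv_mem z2 _ (inv_mem t4), inv_mul_cancel_right]
  refine four hW h5 hk hm hx1 hz (hA.2 _ (mul_mem hc' hb)) (hA.2 b hb) (z2 x t4)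
    (hcb.mul_left rfl) ?_ z3 hbx ?_ (hle' (le_inf (hF _ (mul_mem hc' hb)) (hF b hb)))
  · calc c * b * x * (c * b)⁻¹ = c * (b * x * b⁻¹) * c⁻¹ := by group
      _ = x⁻¹ := by rw [← hbx.eq, mul_inv_cancel_right, hcx]
  · have : c * b * ⁅x, y⁆ * (c * b)⁻¹ = ⁅x, y⁆ := by
      calc c * b * ⁅x, y⁆ * (c * b)⁻¹ = c * (b * ⁅x, y⁆ * b⁻¹) * c⁻¹ := by group
        _ = (c * ⁅x, y⁆ * c⁻¹)⁻¹ := by rw [z3]; group
        _ = _ := by rw [z4, inv_inv]
    exact (mul_inv_eq_iff_eq_mul.1 this).symm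

instance five : Fact (Nat.Prime 5) := ⟨by norm_num⟩

theorem PD.cent5 (h : PD 5 P Φ) (hW : ∀ w : W, w ^ 2 = 1) {x : MulAut W} (h1 : x ∈ P)
    (h2 : x ∉ Φ) (h3 : (fx x).index ≤ 16) : x ∈ 𝐂[P] := by
  intro y hy
  by_contra hc
  obtain ⟨z, hz⟩ : ∃ z, z = ⁅y, x⁆ := ⟨_, rfl⟩
  have z0 : z ≠ 1 := fun e => hc (commutatorElement_eq_one_iff_mul_comm.1 (hz ▸ e))
  have z1 : z ∈ Φ := hz ▸ h.comm (commutator_mem_commutator hy h1)
  have z2 := h.cen z1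
  obtain ⟨k, hk⟩ := h.pw h1
  obtain ⟨l, hl⟩ := h.pw (h.ΦP z1)
  have e1 : y * x * y⁻¹ = z * x := by rw [hz, commutatorElement_def]; group
  have e2 : y * (z * x) * y⁻¹ = z ^ 2 * x := by
    calc y * (z * x) * y⁻¹ = y * z * y⁻¹ * (y * x * y⁻¹) := by group
      _ = _ := by rw [z2 y hy, mul_inv_cancel_right, e1, pow_two, mul_assoc]
  have n1 : z ∉ zpowers x := fun e => by
    have o1 : Nat.card (zpowers x) ≤ 5 := by
      rw [Nat.card_zpowers]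
      exact Nat.le_of_dvd (by norm_num) (orderOf_dvd_of_pow_eq_one (order_five hW hk h3))
    have o2 := mul_le_of_lt h.Pp (bot_lt_iff_ne_bot.2 (zpowers_ne_bot.2 z0))
      (zpowers_le.2 (h.ΦP z1))
    rw [card_bot, one_mul] at o2
    exact h2 (zpowers_le.2 z1 (eq_of_le_of_card_ge (zpowers_le.2 e) (o1.trans o2) ▸ mem_zpowers x))
  obtain ⟨m, hm⟩ := h.pw (mul_mem (h.ΦP z1) h1)
  obtain ⟨n, hn⟩ := h.pw (mul_mem (pow_mem (h.ΦP z1) 2) h1)
  have c : Commute z x := (z2 x h1).symm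
  refine h2 ?_
  suffices x = 1 by rw [this]; exact one_mem _
  refine ab3 hW hk hm hn h3 (by rwa [← e1, index_conj]) (by rwa [← e2, index_conj, ← e1, index_conj])
    (c.mul_left rfl) ((c.pow_left 2).mul_left rfl)
    (fun e => n1 ((mul_mem_cancel_right (mem_zpowers x)).1 e))
    (fun e => n1 (mem_cop (m := 2) («n» := 5 ^ l) (Nat.Coprime.pow_right _ (by norm_num))
      ((mul_mem_cancel_right (mem_zpowers x)).1 e) (by rw [hl]; exact one_mem _))) ?_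
  have : (z ^ 2 * x)⁻¹ * (z * x) ^ 2 = x := by rw [c.mul_pow]; group
  have t := mul_mem (mem_sup_right (inv_mem (mem_zpowers (z ^ 2 * x))))
    (mem_sup_left (pow_mem (mem_zpowers (z * x)) 2))
  rwa [this] at t

theorem PD.fix5 (h : PD 5 P Φ) (hW : ∀ w : W, w ^ 2 = 1) {x g : MulAut W} (h1 : x ∈ P)
    (h2 : x ∉ Φ) (h3 : (fx x).index ≤ 16) (nP : g ∈ 𝐍[P]) (nΦ : g ∈ 𝐍[Φ]) {r : ℕ} (hr : Odd r)
    (hg : g ^ r ∈ 𝐂[P]) : g ∈ centMod (zpowers x) Φ := by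
  have cP : ∀ {u v : MulAut W}, u ∈ 𝐍[P] → v ∈ P → u * v * u⁻¹ ∈ P :=
    Amb.conj_mem_of_mem_normalizer
  have cΦ : ∀ {u v : MulAut W}, u ∈ 𝐍[Φ] → u * v * u⁻¹ ∈ Φ → v ∈ Φ := fun hu hv =>
    (mem_normalizer_iff.1 hu _).2 hv
  have cY : ∀ {u v w : MulAut W}, u ∈ 𝐍[Φ] → ∀ {Y}, Φ ≤ Y → u * v * u⁻¹ ∈ Y →
      w ∈ Φ ⊔ zpowers v → u * w * u⁻¹ ∈ Y := fun {u v w} hu Y a b c =>
    (sup_le (fun t ht => a (Amb.conj_mem_of_mem_normalizer hu ht)) (zpowers_le.2 b) :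
      Φ ⊔ zpowers v ≤ Y.comap (MulAut.conj u).toMonoidHom) c
  obtain ⟨k, hk⟩ := h.pw h1
  have hY : g * x * g⁻¹ ∈ Φ ⊔ zpowers x := by
    by_contra hc
    have p2 := cP nP h1
    have p3 := cP nP p2
    obtain ⟨l, hl⟩ := h.pw p2
    obtain ⟨m, hm⟩ := h.pw p3
    have cx := h.cent5 hW h1 h2 h3
    refine h2 ?_
    suffices x = 1 by rw [this]; exact one_mem _
    refine ab3 hW hk hl hm h3 (by rwa [index_conj]) (by rwa [index_conj, index_conj])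
      (cx _ p2) (cx _ p3) (fun e => hc (mem_sup_right e)) (fun e => hc ?_)
      (h.two p2 p3 (fun e => h2 (cΦ nΦ e)) (fun e => hc ?_) h1)
    · have t : ∀ j : ℕ, (g ^ 2) ^ j * x * ((g ^ 2) ^ j)⁻¹ ∈ Φ ⊔ zpowers x := fun j => by
        induction j with
        | zero => simpa using mem_sup_right (mem_zpowers x)
        | succ j ih =>
          have := cY (pow_mem nΦ 2) le_sup_left (mem_sup_right (T := zpowers x) (by
            convert e using 1; rw [pow_two]; group)) ih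
          convert this using 1
          rw [pow_succ']; group
      obtain ⟨s, rfl⟩ := hr
      have := t (s + 1)
      rw [← pow_mul, show 2 * (s + 1) = 2 * s + 1 + 1 by ring, pow_succ' g (2 * s + 1),
        mul_assoc g, ← hg x h1] at this
      convert this using 1; group
    · have := cY (inv_mem nΦ) le_sup_left (mem_sup_right (T := zpowers x) (by
        simpa [mul_assoc] using mem_zpowers x)) e
      simpa [mul_assoc] using this
  obtain ⟨φ, hφ, _, ⟨i, rfl⟩, e⟩ := (Grp.mem_sup_of_le_normalizer' ((zpowers_le.2 h1).trans h.nΦ)).1 hY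
  dsimp only at e
  have t : ∀ j : ℕ, ∃ ψ ∈ Φ, g ^ j * x * (g ^ j)⁻¹ = ψ * x ^ i ^ j := fun j => by
    induction j with
    | zero => exact ⟨1, one_mem _, by simp⟩
    | succ j ih =>
      obtain ⟨ψ, a, b⟩ := ih
      refine ⟨g * ψ * g⁻¹ * φ ^ i ^ j,
        mul_mem (Amb.conj_mem_of_mem_normalizer nΦ a) (zpow_mem hφ _), ?_⟩
      have c : Commute φ (x ^ i) := (h.cen hφ _ (zpow_mem h1 i)).symm
      calc g ^ (j + 1) * x * (g ^ (j + 1))⁻¹ = g * (g ^ j * x * (g ^ j)⁻¹) * g⁻¹ := by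
            rw [pow_succ']; group
        _ = g * ψ * g⁻¹ * (g * x * g⁻¹) ^ i ^ j := by rw [b, conj_zpow]; group
        _ = _ := by rw [← e, c.mul_zpow, ← zpow_mul, ← pow_succ', mul_assoc (g * ψ * g⁻¹)]
  have o5 := order_five hW hk h3
  have hi : ∀ s : ℤ, x ^ (5 * s) = 1 := fun s => by
    rw [zpow_mul, zpow_ofNat, o5, one_zpow]
  have i4 : x ^ i ^ 4 = x := by
    obtain ⟨s, hs⟩ : 5 ∣ i ^ 4 - 1 := by
      have : ¬ 5 ∣ i := by
        rintro ⟨s, rfl⟩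
        rw [hi, mul_one] at e
        exact h2 (cΦ nΦ (e ▸ hφ))
      have h5 : (i : ZMod 5) ≠ 0 := fun e => this ((ZMod.intCast_zmod_eq_zero_iff_dvd i 5).1 e)
      refine (ZMod.intCast_zmod_eq_zero_iff_dvd _ 5).1 ?_
      push_cast
      rw [ZMod.pow_card_sub_one_eq_one h5, sub_self]
    rw [eq_add_of_sub_eq hs, zpow_add, hi, one_mul, zpow_one]
  have key : ∀ u ∈ 𝐍[Φ], ⁅u, x⁆ ∈ Φ → u ∈ centMod (zpowers x) Φ := fun u a b => by
    refine mem_centMod.2 ⟨a, fun y hy => ?_⟩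
    rw [zpowers_eq_closure] at hy
    suffices y ∈ 𝐍[Φ] ∧ ⁅u, y⁆ ∈ Φ from this.2
    induction hy using closure_induction with
    | mem y hy => rw [Set.mem_singleton_iff.1 hy]; exact ⟨h.nΦ h1, b⟩
    | one => exact ⟨one_mem _, by simp⟩
    | mul y z _ _ s t =>
      refine ⟨mul_mem s.1 t.1, ?_⟩
      convert mul_mem s.2 (Amb.conj_mem_of_mem_normalizer s.1 t.2) using 1
      simp only [commutatorElement_def]; group
    | inv y _ s =>
      refine ⟨inv_mem s.1, ?_⟩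
      convert Amb.conj_mem_of_mem_normalizer (inv_mem s.1) (inv_mem s.2) using 1
      simp only [commutatorElement_def]; group
  refine mem_cop (m := 4) ((Nat.coprime_two_left.2 hr).pow_left 2)
    (key _ (pow_mem nΦ 4) ?_) (key _ (pow_mem nΦ r) ?_)
  · obtain ⟨ψ, a, b⟩ := t 4
    rwa [commutatorElement_def, b, i4, mul_inv_cancel_right]
  · rw [commutatorElement_eq_one_iff_mul_comm.2 (hg x h1).symm]; exact one_mem _

theorem PD.aut5 (h : PD 5 P Φ) (hW : ∀ w : W, w ^ 2 = 1) {x y g : MulAut W} (h1 : x ∈ P)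
    (h2 : x ∉ Φ) (h3 : (fx x).index ≤ 16) (k1 : y ∈ P) (k2 : y ∉ Φ ⊔ zpowers x)
    (k3 : (fx y).index ≤ 16) (nP : g ∈ 𝐍[P]) (nΦ : g ∈ 𝐍[Φ]) {r : ℕ} (hr : Odd r)
    (hg : g ^ r ∈ 𝐂[P]) : g ∈ centMod P Φ := by
  have t1 := h.fix5 hW h1 h2 h3 nP nΦ hr hg
  have t2 := h.fix5 hW k1 (fun e => k2 (mem_sup_left e)) k3 nP nΦ hr hg
  refine centMod_anti (h.two h1 k1 h2 k2) Φ (zpowers_le.1 (le_centMod.2 ⟨zpowers_le.2 nΦ, ?_⟩))
  exact commutator_sup_le' ((zpowers_le.2 h1).trans h.nΦ) ((zpowers_le.2 k1).trans h.nΦ)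
    (le_centMod.1 (zpowers_le.2 t1)).2 (le_centMod.1 (zpowers_le.2 t2)).2

end Cfsg.Agent.QT.Xf
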