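import Mathlib
import Cfsg.Agent.QT.XfGrp
import Cfsg.Agent.PLocal.PReduced
import Cfsg.Prelude.Def_Quasithin

/-! Transfer of `QT/XfGrp` to members of `Ξ(G,T)` (for S1852). -/

set_option autoImplicit false
set_option linter.unusedSectionVars false

namespace Cfsg.Agent.QT.Xf

open Subgroup Cfsg Cfsg.Agent.PLocal Cfsg.Agent.PLocal.Amb Cfsg.Agent.PLocal.CommMod
open scoped commutatorElement Cfsg.Agent.PLocal.CP

variable {G : Type*} [Group G] [Finite G] {p : ℕ} [hp : Fact p.Prime] {X Φ Q P T : Subgroup G}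

theorem comm_mem {g x : G} (hg : g ∈ 𝐍[X]) (hx : x ∈ X) : ⁅g, x⁆ ∈ X :=
  mul_mem (Amb.conj_mem_of_mem_normalizer hg hx) (inv_mem hx)

theorem mem_N_sub {L A : Subgroup G} (h : A ≤ L) {g : L} (hg : (g : G) ∈ 𝐍[A]) :
    g ∈ 𝐍[A.subgroupOf L] := by
  rw [normalizer_eq_subgroupOf, map_subgroupOf_of_le h]; exact hg

theorem burN [X.Normal] [Q.Normal] [Φ.Normal] (h : XiData p X Φ Q P T)
    (hr : Φ.relIndex X ≤ p ^ 2) {g : G} {n : ℕ} (hn : n.Coprime p) (h1 : ∀ x ∈ X, ⁅g, x⁆ ∈ Φ)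
    (h2 : ∀ x ∈ X, ⁅g ^ n, x⁆ ∈ Q) : ∀ x ∈ X, ⁅g, x⁆ ∈ Q := by
  let μ := QuotientGroup.mk' Q
  have hk : μ.ker = Q := QuotientGroup.ker_mk' Q
  have t := (pd_of h hr μ hk.ge (by rw [hk]; exact inf_le_right.trans h.QΦ)).bur (g := μ g) hn
    (le_normalizer_map μ ⟨g, by rw [normalizer_eq_top]; trivial, rfl⟩)
    (mem_centMod.2 ⟨le_normalizer_map μ ⟨g, by rw [normalizer_eq_top]; trivial, rfl⟩, by
      rintro _ ⟨x, hx, rfl⟩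
      exact ⟨_, h1 x hx, map_commutatorElement μ g x⟩⟩)
    (by
      rintro _ ⟨x, hx, rfl⟩
      have : μ ⁅g ^ n, x⁆ = 1 := by rw [← MonoidHom.mem_ker, hk]; exact h2 x hx
      rw [map_commutatorElement, map_pow] at this
      exact (commutatorElement_eq_one_iff_mul_comm.1 this).symm)
  intro x hx
  rw [← hk, MonoidHom.mem_ker, map_commutatorElement]
  exact commutatorElement_eq_one_iff_mul_comm.2 (t _ ⟨x, hx, rfl⟩).symm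

theorem burG (h : XiData p X Φ Q P T) (hr : Φ.relIndex X ≤ p ^ 2) (nQ : 𝐍[X] ≤ 𝐍[Q])
    (nΦ : 𝐍[X] ≤ 𝐍[Φ]) {g : G} (hg : g ∈ 𝐍[X]) {n : ℕ} (hn : n.Coprime p)
    (h1 : ∀ x ∈ X, ⁅g, x⁆ ∈ Φ) (h2 : ∀ x ∈ X, ⁅g ^ n, x⁆ ∈ Q) : ∀ x ∈ X, ⁅g, x⁆ ∈ Q := by
  have := normal_subgroupOf' (le_refl 𝐍[X])
  have := normal_subgroupOf' nQ
  have := normal_subgroupOf' nΦ
  intro x hx
  exact burN (h.subgroupOf le_normalizer h.TX) (by rwa [relIndex_subgroupOf le_normalizer])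
    (g := ⟨g, hg⟩) hn (fun y hy => h1 y hy) (fun y hy => h2 y hy) ⟨x, le_normalizer hx⟩ hx

theorem modH {W : Type*} [CommGroup W] [Finite W] (hW : ∀ w : W, w ^ 2 = 1) (φ : G →* MulAut W)
    (h : XiData p X Φ Q P T) (hr : Φ.relIndex X ≤ p ^ 2) (h5 : 5 ≤ p) (hQ : Q ≤ φ.ker)
    (hk : X ⊓ φ.ker ≤ Φ) {B : Subgroup G} (nX : B ≤ 𝐍[X]) (nΦ : B ≤ 𝐍[Φ]) (b1 : ¬ B ≤ φ.ker)
    (b2 : ∀ b ∈ B, b ^ 2 ∈ φ.ker) (b3 : ∀ b ∈ B, ∀ c ∈ B, b * c * b⁻¹ * c⁻¹ ∈ φ.ker)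
    (hf : ∀ b ∈ B, (∀ x ∈ X, ⁅b, x⁆ ∈ Φ) → b ∈ φ.ker) {F : Subgroup W}
    (hF : ∀ b ∈ B, F ≤ fx (φ b)) (hi : F.index ≤ φ.ker.relIndex B ^ 2) :
    p = 5 ∧ ∀ g ∈ 𝐍[X], g ∈ 𝐍[Φ] → ∀ r : ℕ, Odd r → (∀ x ∈ X, ⁅g ^ r, x⁆ ∈ Q) →
      ∀ x ∈ X, ⁅g, x⁆ ∈ Φ := by
  have pd := pd_of h hr φ hQ hk
  have back : ∀ Y, Φ ≤ Y → Y ≤ X → ∀ x ∈ X, φ x ∈ Y.map φ → x ∈ Y := by
    rintro Y h1 h2 x hx ⟨s, hs, e⟩
    have : s⁻¹ * x ∈ Φ := hk ⟨X.mul_mem (X.inv_mem (h2 hs)) hx, MonoidHom.mem_ker.2 (by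
      rw [map_mul, map_inv, e, inv_mul_cancel])⟩
    simpa using Y.mul_mem hs (h1 this)
  have hA : IsElementaryAbelian 2 (B.map φ) := by
    refine ⟨⟨⟨?_⟩⟩, ?_⟩
    · rintro ⟨_, b, hb, rfl⟩ ⟨_, c, hc, rfl⟩
      have := MonoidHom.mem_ker.1 (b3 b hb c hc)
      rw [map_mul, map_mul, map_mul, map_inv, map_inv] at this
      exact Subtype.ext (commutatorElement_eq_one_iff_mul_comm.1 this)
    · rintro _ ⟨b, hb, rfl⟩
      rw [← map_pow]; exact b2 b hb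
  obtain ⟨rfl, _, ⟨x, x1, rfl⟩, x2, x3⟩ := pd.ex5 hW h5 hA
    (fun e => b1 ((Subgroup.map_eq_bot_iff _).1 e)) ((map_mono nX).trans (le_normalizer_map φ))
    ((map_mono nΦ).trans (le_normalizer_map φ)) (eq_bot_iff.2 (by
      rintro _ ⟨⟨b, hb, rfl⟩, hc⟩
      refine hf b hb fun x hx => hk ⟨comm_mem (nX hb) hx, MonoidHom.mem_ker.2 ?_⟩
      rw [map_commutatorElement]
      exact commutatorElement_eq_one_iff_mul_comm.2 (hc _ ⟨x, hx, rfl⟩).symm))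
    (F := F) (by rintro _ ⟨b, hb, rfl⟩; exact hF b hb) (by rwa [← relIndex_ker])
  refine ⟨rfl, fun g g1 g2 r hr' g3 y hy => ?_⟩
  obtain ⟨s, s1, s2⟩ : ∃ s ∈ T, s * x * s⁻¹ ∉ Φ ⊔ zpowers x := by
    by_contra! e
    exact h.not_invariant x1 (fun e => x2 ⟨x, e, rfl⟩) e
  have s3 : s * x * s⁻¹ ∈ X := Amb.conj_mem_of_mem_normalizer (h.TX s1) x1
  have t := pd.aut5 hW ⟨x, x1, rfl⟩ x2 x3 (y := φ (s * x * s⁻¹)) ⟨_, s3, rfl⟩
    (fun e => s2 (back _ le_sup_left (sup_le h.ΦX (zpowers_le.2 x1)) _ s3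
      (by rwa [Subgroup.map_sup, MonoidHom.map_zpowers])))
    (by rwa [map_mul, map_mul, map_inv, index_conj])
    (le_normalizer_map φ ⟨g, g1, rfl⟩) (le_normalizer_map φ ⟨g, g2, rfl⟩) hr' (by
      rintro _ ⟨x, hx, rfl⟩
      have := MonoidHom.mem_ker.1 (hQ (g3 x hx))
      rw [map_commutatorElement, map_pow] at this
      exact (commutatorElement_eq_one_iff_mul_comm.1 this).symm)
  refine back Φ le_rfl h.ΦX _ (comm_mem g1 hy) ?_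
  rw [map_commutatorElement]
  exact (mem_centMod.1 t).2 _ ⟨y, hy, rfl⟩

theorem modG {V B : Subgroup G} (hV : IsElementaryAbelian 2 V)
    (h : XiData p X Φ Q P T) (hr : Φ.relIndex X ≤ p ^ 2) (h5 : 5 ≤ p) (XV : X ≤ 𝐍[V])
    (TV : T ≤ 𝐍[V]) (hQ : Q ≤ 𝐂[V]) (hk : X ⊓ 𝐂[V] ≤ Φ) (hB : B ≤ X ⊔ T)
    (b1 : InducesElemAbelianTwoGroupOn B V)
    (hf : ∀ b ∈ B, (∀ x ∈ X, ⁅b, x⁆ ∈ Φ) → b ∈ 𝐂[V])
    (hi : (V ⊓ 𝐂[B]).relIndex V ≤ (𝐂[V]).relIndex B ^ 2) :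
    p = 5 ∧ ∀ g ∈ 𝐍[V], g ∈ 𝐍[X] → g ∈ 𝐍[Φ] → ∀ r : ℕ, Odd r → (∀ x ∈ X, ⁅g ^ r, x⁆ ∈ Q) →
      ∀ x ∈ X, ⁅g, x⁆ ∈ Φ := by
  let _ : CommGroup V := { (inferInstance : Group V) with mul_comm := hV.1.is_comm.comm }
  have BV : B ≤ 𝐍[V] := hB.trans (sup_le XV TV)
  have hker := V.normalizerMonoidHom_ker
  obtain ⟨t1, t2⟩ := modH (W := V) (fun w => Subtype.ext (hV.2 w w.2)) V.normalizerMonoidHom
    (h.subgroupOf XV TV) (by rwa [relIndex_subgroupOf XV]) h5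
    (by rw [hker]; exact fun x hx => hQ hx) (by rw [hker]; exact fun x hx => hk ⟨hx.1, hx.2⟩)
    (B := B.subgroupOf 𝐍[V])
    (fun b hb => mem_N_sub XV ((hB.trans (sup_le le_normalizer h.TX)) hb))
    (fun b hb => mem_N_sub (h.ΦX.trans XV) ((hB.trans (sup_le h.XΦ h.TΦ)) hb))
    (by rw [hker]; exact fun e => b1.1 fun b hb => e (show (⟨b, BV hb⟩ : 𝐍[V]) ∈ _ from hb))
    (by rw [hker]; exact fun b hb => b1.2.1 b hb)
    (by rw [hker]; exact fun b hb c hc => b1.2.2 b hb c hc)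
    (by rw [hker]; exact fun b hb e => hf b hb fun x hx => e ⟨x, XV hx⟩ hx)
    (F := (𝐂[B]).subgroupOf V)
    (fun b hb v hv => mem_fx.2 (Subtype.ext (mul_inv_eq_iff_eq_mul.2 (hv b hb))))
    (by rw [hker, relIndex_subgroupOf BV]; rwa [inf_relIndex_left] at hi)
  exact ⟨t1, fun g g1 g2 g3 r hr' g4 x hx => t2 ⟨g, g1⟩ (mem_N_sub XV g2)
    (mem_N_sub (h.ΦX.trans XV) g3) r hr' (fun y hy => g4 y hy) ⟨x, XV hx⟩ hx⟩

theorem quot_pgroup (h : XiData p X Φ (pCoreOf 2 X) P T) : IsPGroup p (X ⧸ pCore 2 X) := by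
  let μ := QuotientGroup.mk' (pCore 2 X)
  have e : (P.subgroupOf X).map μ = ⊤ := by
    refine eq_top_iff.2 fun y _ => ?_
    obtain ⟨x, rfl⟩ := QuotientGroup.mk'_surjective _ y
    obtain ⟨a, ha, b, hb, e⟩ := (mem_sup_of_le_normalizer_left (h.PX.trans h.XQ)).1 (h.QP x.2)
    obtain ⟨a, ha, rfl⟩ := ha
    refine ⟨⟨b, h.PX hb⟩, hb, ?_⟩
    have : x = a * ⟨b, h.PX hb⟩ := Subtype.ext e
    rw [this, map_mul, QuotientGroup.mk'_apply _ a, (QuotientGroup.eq_one_iff a).2 ha, one_mul]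
  have := (Amb.isPGroup_subgroupOf h.Pp X).map μ
  rw [e] at this
  exact this.of_equiv topEquiv

theorem rel_le_sq (hX : X ∈ Xi T) (h : XiData p X Φ (pCoreOf 2 X) P T) :
    Φ.relIndex X ≤ p ^ 2 := by
  obtain ⟨k, hk⟩ := IsPGroup.iff_card.1 (quot_pgroup h)
  have e : (pCoreOf 2 X).relIndex X = Nat.card (X ⧸ pCore 2 X) := by
    rw [relIndex, pCoreOf_subgroupOf]; rfl
  have e2 := relIndex_mul_relIndex _ _ _ h.QΦ h.ΦX
  obtain ⟨-, -, -, ⟨q, hq, -, h4⟩, -⟩ := hX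
  have pq : ∀ j, Nat.card (X ⧸ pCore 2 X) = q ^ (j + 1) → q = p := fun j e => by
    rw [hk] at e
    exact (Nat.prime_dvd_prime_iff_eq hq hp.out).1
      (hq.dvd_of_dvd_pow (e ▸ dvd_pow_self q j.succ_ne_zero))
  rcases h4 with h4 | h4
  · obtain rfl := pq 1 h4.1
    rw [← h4.1, ← e]
    exact relIndex_le_of_le_left h.QΦ index_ne_zero_of_finite
  · obtain rfl := pq 2 h4.1
    rw [e, h4.1] at e2
    obtain ⟨j, -, hj⟩ := (Nat.dvd_prime_pow hq).1 (Dvd.intro _ e2)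
    have : j ≠ 0 := by
      rintro rfl
      refine h4.2 ⟨⟨fun a b => ?_⟩⟩
      obtain ⟨a, rfl⟩ := QuotientGroup.mk'_surjective _ a
      obtain ⟨b, rfl⟩ := QuotientGroup.mk'_surjective _ b
      rw [← commutatorElement_eq_one_iff_mul_comm, ← map_commutatorElement,
        QuotientGroup.mk'_apply, QuotientGroup.eq_one_iff, ← pCoreOf_subgroupOf]
      exact relIndex_eq_one.1 hj (h.comm (commutator_mem_commutator a.2 b.2))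
    have t : q ≤ (pCoreOf 2 X).relIndex Φ := hj ▸ Nat.le_self_pow this q
    refine Nat.le_of_mul_le_mul_left (c := q) ?_ hq.pos
    rw [← pow_succ', ← e2]
    exact Nat.mul_le_mul_right _ t

end Cfsg.Agent.QT.Xf
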